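import Cfsg.Agent.TwoAlt.Small
import Mathlib.GroupTheory.FixedPointFree

/-!
Centraliser `⟨J⟩ × A₅`: the group is simple.
-/

set_option autoImplicit false
set_option linter.unusedSectionVars false

namespace CfsgLib.TwoAlt

open Subgroup

variable {G : Type*} [Group G] [Finite G] {J : G} {T : Subgroup G}

theorem closure_normal_of {H : Type*} [Group H] {S : Set H}
    (h : ∀ y ∈ S, ∀ g : H, g * y * g⁻¹ ∈ S) : (closure S).Normal := by
  refine ⟨fun x hx g => ?_⟩
  have h1 : (closure S).map (MulAut.conj g).toMonoidHom ≤ closure S := by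
    rw [MonoidHom.map_closure]
    exact closure_mono (by rintro _ ⟨y, hy, rfl⟩; exact h y hy g)
  exact h1 (mem_map_of_mem _ hx)

/-- The subgroup generated by the involutions. -/
def invGen (G : Type*) [Group G] : Subgroup G := closure {u : G | u * u = 1}

instance invGen_normal : (invGen G).Normal := closure_normal_of fun u hu g => by
  show g * u * g⁻¹ * (g * u * g⁻¹) = 1
  rw [show g * u * g⁻¹ * (g * u * g⁻¹) = g * (u * u) * g⁻¹ by group, hu, mul_one, mul_inv_cancel]

theorem mem_invGen {u : G} (hu : u * u = 1) : u ∈ invGen G := subset_closure hu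

theorem Data.simple_T (d : Data J T 5) : IsSimpleGroup ↥T := by
  obtain ⟨e⟩ := d.iso
  haveI : IsSimpleGroup ↥(alternatingGroup (Fin 5)) := alternatingGroup.isSimpleGroup (by simp)
  haveI : Nontrivial ↥T := e.toEquiv.nontrivial
  exact IsSimpleGroup.isSimpleGroup_of_surjective e.symm.toMonoidHom e.symm.surjective

theorem Data.card_sixty (d : Data J T 5) : Nat.card ↥T = 60 := by
  rcases d.card_T with ⟨h, -⟩ | ⟨-, h⟩
  · omega
  · exact h

theorem Data.eq_one_of_mem (d : Data J T 5) {N : Subgroup G} (hN : N.Normal)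
    (hodd : Odd (Nat.card ↥N)) {x : G} (hx : x ∈ N) (hxC : x ∈ centralizer ({J} : Set G)) : x = 1 := by
  haveI := hN
  haveI := d.simple_T
  obtain ⟨q, hq, hker⟩ : ∃ q : ↥(centralizer ({J} : Set G)) →* ↥T, Function.Surjective q ∧
      ∀ y, q y = 1 → (y : G) ∈ zpowers J := by
    refine ⟨(MonoidHom.snd _ _).comp d.split.symm.toMonoidHom,
      fun b => ⟨d.split (1, b), by simp⟩, fun y hy => ?_⟩
    obtain ⟨⟨a, b⟩, rfl⟩ := d.split.surjective y
    have hb : b = 1 := by simpa using hy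
    rw [d.split_apply, hb, coe_one, mul_one]
    exact a.2
  let C := centralizer ({J} : Set G)
  have hinj : Nat.card ↥(N.subgroupOf C) ∣ Nat.card ↥N := by
    have e : Nat.card ↥((N ⊓ C).subgroupOf C) = Nat.card ↥(N ⊓ C) :=
      Nat.card_congr (subgroupOfEquivOfLe (inf_le_right : N ⊓ C ≤ C)).toEquiv
    rw [inf_subgroupOf_right] at e
    rw [e]
    exact card_dvd_of_le inf_le_left
  have hdvd : Nat.card ↥((N.subgroupOf C).map q) ∣ Nat.card ↥N :=
    ((N.subgroupOf C).card_map_dvd q).trans hinj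
  rcases ((hN.subgroupOf C).map q hq).eq_bot_or_eq_top with h | h
  · have hxJ : x ∈ zpowers J := by
      refine hker ⟨x, hxC⟩ ?_
      have h' : q ⟨x, hxC⟩ ∈ (N.subgroupOf C).map q := mem_map_of_mem q hx
      rwa [h, mem_bot] at h'
    have h2 : orderOf x ∣ 2 := by
      have := Subgroup.orderOf_dvd_natCard _ hxJ
      rwa [Nat.card_zpowers, d.ord] at this
    have hN2 : orderOf x ∣ Nat.card ↥N := Subgroup.orderOf_dvd_natCard N hx
    rcases (Nat.dvd_prime Nat.prime_two).1 h2 with h1 | h1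
    · exact orderOf_eq_one_iff.1 h1
    · rw [h1] at hN2
      exact absurd (even_iff_two_dvd.2 hN2) (Nat.not_even_iff_odd.2 hodd)
  · rw [h, card_top, d.card_sixty] at hdvd
    exact absurd (even_iff_two_dvd.2 (Dvd.dvd.trans (by norm_num) hdvd))
      (Nat.not_even_iff_odd.2 hodd)

theorem Data.exists_inv_T (d : Data J T 5) : ∃ t ∈ T, t * t = 1 ∧ t ≠ 1 ∧ Commute J t := by
  obtain ⟨P, hJ, hP⟩ := d.exists_sylow
  obtain ⟨b, hb⟩ := d.conj_mem hJ hP d.mul_self
  exact ⟨_, hb.2, d.sylow_sq hP hb.1, fun h => d.ne_one (conj_eq_one_iff.1 h),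
    d.prod.2.2.1 J (mem_zpowers J) _ hb.2⟩

theorem Data.le_of_normal (d : Data J T 5) {N : Subgroup G} (hN : N.Normal) (hne : N ≠ ⊥) :
    invGen G ≤ N := by
  haveI := hN
  haveI : Fact (Nat.Prime 2) := ⟨Nat.prime_two⟩
  by_cases hev : 2 ∣ Nat.card ↥N
  · obtain ⟨v, hv⟩ := exists_prime_orderOf_dvd_card' (G := ↥N) 2 hev
    have hv1 : (v : G) ≠ 1 := fun h => by
      rw [OneMemClass.coe_eq_one] at h
      rw [h, orderOf_one] at hv
      omega
    have hv2 : (v : G) * v = 1 := by
      rw [← coe_mul, ← sq, ← hv, pow_orderOf_eq_one, coe_one]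
    refine (closure_le _).2 fun u hu => ?_
    by_cases hu1 : u = 1
    · rw [hu1]; exact one_mem _
    · obtain ⟨g, hg⟩ := isConj_iff.1 ((d.isConj hv2 hv1).symm.trans (d.isConj hu hu1))
      exact hg ▸ hN.conj_mem _ v.2 g
  · exfalso
    have hodd : Odd (Nat.card ↥N) := Nat.odd_iff.2 (Nat.two_dvd_ne_zero.1 hev)
    have inv : ∀ v : G, v * v = 1 → v ≠ 1 → ∀ x ∈ N, v * x * v⁻¹ = x⁻¹ := by
      intro v hv hv1 x hx
      obtain ⟨g, hg⟩ := isConj_iff.1 (d.isConj hv hv1)
      let φ : ↥N →* ↥N := (MulAut.conjNormal v : MulAut ↥N).toMonoidHom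
      have hfp : MonoidHom.FixedPointFree φ := by
        intro n hn
        have hn' : v * (n : G) * v⁻¹ = n := congrArg Subtype.val hn
        have h1 : g⁻¹ * (n : G) * g ∈ centralizer ({J} : Set G) := by
          rw [mem_centralizer_singleton_iff]
          rw [mul_inv_eq_iff_eq_mul, ← hg] at hn'
          calc g⁻¹ * (n : G) * g * J = g⁻¹ * ((n : G) * (g * J * g⁻¹)) * g := by group
            _ = g⁻¹ * ((g * J * g⁻¹) * (n : G)) * g := by rw [hn']
            _ = J * (g⁻¹ * (n : G) * g) := by group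
        have h2 := d.eq_one_of_mem hN hodd
          (by simpa using hN.conj_mem _ n.2 g⁻¹) h1
        exact Subtype.ext (by
          have := congrArg (fun y => g * y * g⁻¹) h2
          simpa [mul_assoc] using this)
      have hinv : Function.Involutive φ := fun n => Subtype.ext (by
        show v * (v * (n : G) * v⁻¹) * v⁻¹ = n
        rw [show v * (v * (n : G) * v⁻¹) * v⁻¹ = (v * v) * (n : G) * (v * v)⁻¹ by group, hv, one_mul,
          inv_one, mul_one])
      exact congrArg Subtype.val (congrFun (hfp.coe_eq_inv_of_involutive hinv) ⟨x, hx⟩)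
    obtain ⟨t, htT, ht2, ht1, hc⟩ := d.exists_inv_T
    have hJt : (J * t) * (J * t) = 1 := by
      rw [show J * t * (J * t) = J * (t * J) * t by group, ← hc.eq,
        show J * (J * t) * t = J * J * (t * t) by group, d.mul_self, ht2, one_mul]
    have hJt1 : J * t ≠ 1 := fun h => by
      have : J = t := by
        rw [eq_inv_of_mul_eq_one_left h, inv_eq_of_mul_eq_one_right ht2]
      exact d.not_mem (this ▸ htT)
    obtain ⟨x, hx, hx1⟩ := N.bot_or_exists_ne_one.resolve_left hne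
    have e1 := inv J d.mul_self d.ne_one
    have e2 := inv t ht2 ht1
    have e3 : (J * t) * x * (J * t)⁻¹ = x := by
      rw [show J * t * x * (J * t)⁻¹ = J * (t * x * t⁻¹) * J⁻¹ by group, e2 x hx,
        e1 x⁻¹ (inv_mem hx), inv_inv]
    have h4 := inv _ hJt hJt1 x hx
    rw [e3] at h4
    have h2 : orderOf (⟨x, hx⟩ : ↥N) ∣ 2 := orderOf_dvd_of_pow_eq_one (Subtype.ext (by
      show x ^ 2 = 1
      rw [sq]
      nth_rewrite 2 [h4]
      exact mul_inv_cancel x))
    rcases (Nat.dvd_prime Nat.prime_two).1 h2 with h | h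
    · exact hx1 (congrArg Subtype.val (orderOf_eq_one_iff.1 h))
    · exact hev (h ▸ orderOf_dvd_natCard _)

theorem Data.cent_le (d : Data J T 5) : centralizer ({J} : Set G) ≤ invGen G := by
  haveI := d.simple_T
  have hJ : J ∈ invGen G := mem_invGen d.mul_self
  have hT : T ≤ invGen G := by
    obtain ⟨t, htT, ht2, ht1, -⟩ := d.exists_inv_T
    rcases (inferInstance : ((invGen G).subgroupOf T).Normal).eq_bot_or_eq_top with h | h
    · have h' : (⟨t, htT⟩ : ↥T) ∈ (invGen G).subgroupOf T := mem_invGen ht2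
      rw [h, mem_bot] at h'
      exact absurd (congrArg Subtype.val h') ht1
    · exact subgroupOf_eq_top.1 h
  rw [← d.prod.2.2.2.2]
  exact sup_le (zpowers_le.2 hJ) hT

theorem Data.invGen_eq_top (d : Data J T 5) : invGen G = ⊤ := by
  haveI : Fact (Nat.Prime 2) := ⟨Nat.prime_two⟩
  set I := invGen G
  have hJ : J ∈ I := mem_invGen d.mul_self
  have hC := d.cent_le
  have hTI : T ≤ I := d.le_cent.trans hC
  -- squares of `I`
  set S0 : Subgroup G := closure {y : G | ∃ x ∈ I, y = x * x} with hS0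
  haveI : S0.Normal := closure_normal_of fun y hy g => by
    obtain ⟨x, hx, rfl⟩ := hy
    exact ⟨g * x * g⁻¹, invGen_normal.conj_mem x hx g, by group⟩
  have hS0ne : S0 ≠ ⊥ := by
    intro h
    haveI : Fact (Nat.Prime 3) := ⟨Nat.prime_three⟩
    obtain ⟨t, ht⟩ := exists_prime_orderOf_dvd_card' (G := ↥T) 3 (by rw [d.card_sixty]; norm_num)
    have h' : (t : G) * t ∈ S0 := subset_closure ⟨t, hTI t.2, rfl⟩
    rw [h, mem_bot, ← coe_mul, OneMemClass.coe_eq_one] at h'
    have := orderOf_dvd_of_pow_eq_one (show t ^ 2 = 1 by rw [sq, h'])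
    rw [ht] at this
    omega
  have hIS : I ≤ S0 := d.le_of_normal inferInstance hS0ne
  have dI : Data (⟨J, hJ⟩ : ↥I) (T.subgroupOf I) 5 := by
    refine ⟨⟨?_, ?_⟩, ?_, ⟨(subgroupOfEquivOfLe hTI).trans d.iso.some⟩, fun M hM h2 => ?_⟩
    · rw [← orderOf_coe]; exact d.ord
    · obtain ⟨P, hP, hPC⟩ := d.exists_sylow
      refine ⟨P.subtype (fun x hx => mem_invGen (d.sylow_sq hPC hx)), hP, fun x hx => ?_⟩
      exact Subtype.ext (mem_centralizer_singleton_iff.1 (hPC hx))
    · have hc : centralizer ({⟨J, hJ⟩} : Set ↥I) = (centralizer ({J} : Set G)).subgroupOf I := by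
        ext x
        simp [mem_centralizer_singleton_iff, mem_subgroupOf, Subtype.ext_iff]
      have hz : zpowers (⟨J, hJ⟩ : ↥I) = (zpowers J).subgroupOf I := by
        ext x
        simp [mem_zpowers_iff, mem_subgroupOf, Subtype.ext_iff]
      refine ⟨?_, ?_, fun a ha b hb => ?_, ?_, ?_⟩
      · rw [hz, hc]; exact fun x hx => d.prod.1 hx
      · rw [hc]; exact fun x hx => d.le_cent hx
      · rw [hz] at ha
        exact Subtype.ext (d.prod.2.2.1 a ha b hb)
      · rw [hz, eq_bot_iff]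
        rintro x ⟨h1, h2⟩
        have : (x : G) ∈ zpowers J ⊓ T := ⟨h1, h2⟩
        rw [d.prod.2.2.2.1, mem_bot] at this
        exact mem_bot.2 (Subtype.ext this)
      · rw [hz, hc, ← subgroupOf_sup (zpowers_le.2 hJ) hTI, d.prod.2.2.2.2]
    · haveI := hM
      have hsq : ∀ x : ↥I, x * x ∈ M := fun x => by
        have := pow_index_mem M x
        rwa [h2, sq] at this
      have hle : S0 ≤ M.map I.subtype := (closure_le _).2 fun y ⟨x, hx, e⟩ =>
        ⟨⟨x, hx⟩ * ⟨x, hx⟩, hsq _, e.symm⟩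
      have htop : M = ⊤ := eq_top_iff.2 fun x _ => by
        obtain ⟨y, hy, he⟩ := hle (hIS x.2)
        rwa [← Subtype.ext he]
      rw [htop, index_top] at h2
      omega
  refine eq_top_iff.2 fun g _ => ?_
  have h1 : g * J * g⁻¹ * (g * J * g⁻¹) = 1 := by
    rw [show g * J * g⁻¹ * (g * J * g⁻¹) = g * (J * J) * g⁻¹ by group, d.mul_self, mul_one,
      mul_inv_cancel]
  have hconj := dI.isConj (u := ⟨g * J * g⁻¹, mem_invGen h1⟩) (Subtype.ext h1)
    (fun e => d.ne_one (conj_eq_one_iff.1 (congrArg Subtype.val e)))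
  obtain ⟨i, hi⟩ := isConj_iff.1 hconj
  have hi' : (i : G) * J * (i : G)⁻¹ = g * J * g⁻¹ := congrArg Subtype.val hi
  have hmem : (i : G)⁻¹ * g ∈ centralizer ({J} : Set G) := by
    rw [mem_centralizer_singleton_iff]
    calc (i : G)⁻¹ * g * J = (i : G)⁻¹ * (g * J * g⁻¹) * g := by group
      _ = J * ((i : G)⁻¹ * g) := by rw [← hi']; group
  have := mul_mem i.2 (hC hmem)
  rwa [mul_inv_cancel_left] at this

theorem Data.isSimple (d : Data J T 5) : IsSimpleGroup G := by
  haveI : Nontrivial G := ⟨⟨J, 1, d.ne_one⟩⟩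
  exact ⟨fun N hN => (eq_or_ne N ⊥).imp id fun h => eq_top_iff.2 (d.invGen_eq_top ▸ d.le_of_normal hN h)⟩

/-- The centraliser in the form `Z₂ × A₅`. -/
theorem Data.cent_iso (d : Data J T 5) :
    Nonempty (↥(centralizer ({J} : Set G)) ≃* Multiplicative (ZMod 2) × ↥(alternatingGroup (Fin 5))) := by
  haveI : Fact (Nat.Prime 2) := ⟨Nat.prime_two⟩
  obtain ⟨e⟩ := d.iso
  have e2 : ↥(zpowers J) ≃* Multiplicative (ZMod 2) :=
    mulEquivOfPrimeCardEq (p := 2) (by rw [Nat.card_zpowers, d.ord]) (by simp)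
  exact ⟨d.split.symm.trans (e2.prodCongr e)⟩

end CfsgLib.TwoAlt
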