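import Cfsg.Agent.TwoAlt.FourCount
import Cfsg.Agent.TwoAlt.Five
import Cfsg.Agent.SmallSimple.ThirtySixForty.Fifteen
import Cfsg.Agent.SmallSimple.FiveOhFour
import Cfsg.Agent.AutPSL.Out
import Cfsg.Agent.Classical.LinearOrder

/-!
Centraliser `⟨J⟩ × A₄`: the group is `PΓL(2, 8)`.
-/

set_option autoImplicit false
set_option linter.unusedSectionVars false

namespace CfsgLib.TwoAlt

open Subgroup MulAction

variable {G : Type*} [Group G] [Finite G] {J : G} {T : Subgroup G} {P : Sylow 2 G}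

namespace Four

theorem le_invGen (f : Four J T P) : (P : Subgroup G) ≤ invGen G :=
  fun _ hx => mem_invGen (f.data.sylow_sq f.le hx)

theorem exists_seven (f : Four J T P) (hns : ¬ Group.IsSolvable G) :
    ∃ r : G, orderOf r = 7 ∧ r ∈ nP P ∧ r ∈ invGen G ∧
      Nat.card ↥(centralizer ({r} : Set G)) = 7 ∧
      Nat.card ↥(normalizer ((zpowers r : Subgroup G) : Set G)) = 42 := by
  haveI : Fact (Nat.Prime 7) := ⟨by norm_num⟩
  haveI : Fact (Nat.Prime 2) := ⟨Nat.prime_two⟩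
  obtain ⟨u, hu, huH⟩ := f.exists_out hns
  obtain ⟨⟨r, hr⟩, hr7⟩ := exists_prime_orderOf_dvd_card' 7
    (show 7 ∣ Nat.card ↥(nP P ⊓ (nP P).map (MulAut.conj u).toMonoidHom) by
      rcases f.card_pair hns hu huH with h | h <;> rw [h] <;> norm_num)
  rw [Subgroup.orderOf_mk] at hr7
  obtain ⟨-, hC, hN⟩ := f.two_fixed hns hu huH hr7 hr
  refine ⟨r, hr7, hr.1, ?_, hC, hN⟩
  obtain ⟨⟨v, hv⟩, hv2⟩ := exists_prime_orderOf_dvd_card' 2
    (show 2 ∣ Nat.card ↥(normalizer ((zpowers r : Subgroup G) : Set G)) by rw [hN]; norm_num)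
  rw [Subgroup.orderOf_mk] at hv2
  have hcz : v * r * v⁻¹ * r⁻¹ ∈ zpowers r :=
    mul_mem ((mem_normalizer_iff.1 hv r).1 (mem_zpowers r)) (inv_mem (mem_zpowers r))
  have hcI : v * r * v⁻¹ * r⁻¹ ∈ invGen G := by
    rw [show v * r * v⁻¹ * r⁻¹ = v * (r * v⁻¹ * r⁻¹) by group]
    exact mul_mem (mem_invGen (sq_of_ord hv2).1)
      (invGen_normal.conj_mem _ (inv_mem (mem_invGen (sq_of_ord hv2).1)) r)
  have hc1 : v * r * v⁻¹ * r⁻¹ ≠ 1 := fun e =>
    f.not_commute_seven hr7 (sq_of_ord hv2).1 (sq_of_ord hv2).2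
      (mul_inv_eq_iff_eq_mul.1 (mul_inv_eq_one.1 e)).symm
  have hc7 : orderOf (v * r * v⁻¹ * r⁻¹) = 7 := by
    have h1 := Subgroup.orderOf_dvd_natCard _ hcz
    rw [Nat.card_zpowers, hr7] at h1
    exact ((Nat.dvd_prime (by norm_num)).1 h1).resolve_left fun e => hc1 (orderOf_eq_one_iff.1 e)
  have heq := eq_of_le_of_card_ge (zpowers_le.2 hcz) (by rw [Nat.card_zpowers, Nat.card_zpowers, hr7, hc7])
  exact zpowers_le.2 hcI (heq ▸ mem_zpowers r)

/-- The generated subgroup is transitive on the cosets. -/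
theorem exists_mem_smul (f : Four J T P) (hns : ¬ Group.IsSolvable G) (x : G ⧸ nP P) :
    ∃ k ∈ invGen G, k • (QuotientGroup.mk (1 : G) : G ⧸ nP P) = x := by
  by_cases hx : x = QuotientGroup.mk 1
  · exact ⟨1, one_mem _, by rw [one_smul, hx]⟩
  · obtain ⟨i, hi, hix⟩ := StrongEmbed.exists_swap (f.strongly hns) (Ne.symm hx)
    exact ⟨i, mem_invGen (sq_of_ord hi).1, hix⟩

/-- All involutions are conjugate within the generated subgroup. -/
theorem exists_conj (f : Four J T P) (hns : ¬ Group.IsSolvable G) {v : G} (hv : v * v = 1) (hv1 : v ≠ 1) :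
    ∃ k ∈ invGen G, k * J * k⁻¹ = v := by
  obtain ⟨r, hr, hrH, hrI, -, -⟩ := f.exists_seven hns
  obtain ⟨g, hg⟩ := isConj_iff.1 (f.data.isConj hv hv1)
  obtain ⟨k, hk, hko⟩ := f.exists_mem_smul hns (QuotientGroup.mk g)
  rw [StrongEmbed.smul_mk_one_eq, QuotientGroup.eq] at hko
  obtain ⟨s, hs, hsJ⟩ := f.seven_transitive hr hrH (k⁻¹ * g * J * (k⁻¹ * g)⁻¹)
    ((mem_normalizer_iff.1 hko J).1 f.mem) (fun e => f.ne_one (conj_eq_one_iff.1 e))
  refine ⟨k * s, mul_mem hk (zpowers_le.2 hrI hs), ?_⟩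
  calc k * s * J * (k * s)⁻¹ = k * (s * J * s⁻¹) * k⁻¹ := by group
    _ = v := by rw [hsJ, ← hg]; group

theorem invGen_simple (f : Four J T P) (hns : ¬ Group.IsSolvable G) : IsSimpleGroup ↥(invGen G) := by
  haveI : Fact (Nat.Prime 2) := ⟨Nat.prime_two⟩
  haveI : Nontrivial ↥(invGen G) :=
    ⟨⟨⟨J, mem_invGen f.data.mul_self⟩, 1, fun h => f.ne_one (congrArg Subtype.val h)⟩⟩
  refine ⟨fun M hM => ?_⟩
  by_cases hev : 2 ∣ Nat.card ↥M
  · right
    obtain ⟨⟨⟨v, hvI⟩, hvM⟩, hv⟩ := exists_prime_orderOf_dvd_card' 2 hev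
    rw [Subgroup.orderOf_mk, Subgroup.orderOf_mk] at hv
    obtain ⟨k, hk, hkv⟩ := f.exists_conj hns (sq_of_ord hv).1 (sq_of_ord hv).2
    have hJ : (⟨J, mem_invGen f.data.mul_self⟩ : ↥(invGen G)) ∈ M := by
      have := hM.conj_mem _ hvM ⟨k, hk⟩⁻¹
      have e : (⟨k, hk⟩ : ↥(invGen G))⁻¹ * ⟨v, hvI⟩ * (⟨k, hk⟩ : ↥(invGen G))⁻¹⁻¹ =
          ⟨J, mem_invGen f.data.mul_self⟩ := Subtype.ext (by
        show k⁻¹ * v * k⁻¹⁻¹ = J
        rw [← hkv]; group)
      rwa [e] at this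
    have hle : invGen G ≤ M.map (invGen G).subtype := by
      refine (closure_le _).2 fun w hw => ?_
      by_cases hw1 : w = 1
      · rw [hw1]; exact one_mem _
      · obtain ⟨s, hs, hsw⟩ := f.exists_conj hns hw hw1
        exact ⟨_, hM.conj_mem _ hJ ⟨s, hs⟩, hsw⟩
    refine eq_top_iff.2 fun x _ => ?_
    obtain ⟨y, hy, hyx⟩ := hle x.2
    rwa [← Subtype.ext hyx]
  · left
    have hcard : Nat.card ↥(M.map (invGen G).subtype) = Nat.card ↥M :=
      card_map_of_injective (invGen G).subtype_injective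
    have hb : M.map (invGen G).subtype = ⊥ := f.eq_bot_of_odd
      (hcard ▸ Nat.odd_iff.2 (Nat.two_dvd_ne_zero.1 hev)) (by
        rintro v hv _ ⟨y, hy, rfl⟩
        exact ⟨_, hM.conj_mem y hy ⟨v, mem_invGen hv⟩, rfl⟩)
    exact (map_eq_bot_iff_of_injective M (invGen G).subtype_injective).1 hb

theorem card_invGen (f : Four J T P) (hns : ¬ Group.IsSolvable G) : Nat.card ↥(invGen G) = 504 := by
  haveI : Fact (Nat.Prime 7) := ⟨by norm_num⟩
  obtain ⟨r, hr, hrH, hrI, hC, hN⟩ := f.exists_seven hns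
  set o : G ⧸ nP P := QuotientGroup.mk 1
  have horb : orbit ↥(invGen G) o = Set.univ := Set.eq_univ_of_forall fun x => by
    obtain ⟨k, hk, hkx⟩ := f.exists_mem_smul hns x
    exact ⟨⟨k, hk⟩, hkx⟩
  have hstab : stabilizer ↥(invGen G) o = (nP P).subgroupOf (invGen G) := by
    ext k
    rw [mem_stabilizer_iff, mem_subgroupOf]
    exact StrongEmbed.smul_mk_one_iff
  have h9 := (stabilizer ↥(invGen G) o).card_mul_index
  rw [index_stabilizer, horb, Set.ncard_univ, f.index_eq_nine hns, hstab, ← inf_subgroupOf_right,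
    Nat.card_congr (subgroupOfEquivOfLe inf_le_right).toEquiv] at h9
  have h56 : 56 ∣ Nat.card ↥(nP P ⊓ invGen G) := by
    have h8 : 8 ∣ Nat.card ↥(nP P ⊓ invGen G) :=
      f.card_sylow ▸ card_dvd_of_le (le_inf le_normalizer f.le_invGen)
    have h7 := Subgroup.orderOf_dvd_natCard _ (mem_inf.2 ⟨hrH, hrI⟩ : r ∈ nP P ⊓ invGen G)
    rw [hr] at h7
    exact Nat.Coprime.mul_dvd_of_dvd_of_dvd (by norm_num : Nat.Coprime 8 7) h8 h7
  have h504 : 504 ∣ Nat.card ↥(invGen G) := by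
    rw [← h9, show 504 = 56 * 9 by norm_num]
    exact Nat.mul_dvd_mul_right h56 9
  have hd : Nat.card ↥(invGen G) ∣ 1512 := f.card_group hns ▸ card_subgroup_dvd_card _
  have key : ∀ n ∈ Nat.divisors 1512, 504 ∣ n → n = 504 ∨ n = 1512 := by decide +kernel
  refine (key _ (Nat.mem_divisors.2 ⟨hd, by norm_num⟩) h504).resolve_right fun hall => ?_
  have htop : invGen G = ⊤ := eq_top_of_card_eq _ (by rw [hall, f.card_group hns])
  haveI : IsSimpleGroup G := by
    haveI := f.invGen_simple hns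
    haveI : Nontrivial G := ⟨⟨J, 1, f.ne_one⟩⟩
    exact IsSimpleGroup.isSimpleGroup_of_surjective (invGen G).subtype fun x => ⟨⟨x, htop ▸ mem_top x⟩, rfl⟩
  have hG : ¬ IsMulCommutative G := fun hc => f.not_commute_seven hr f.data.mul_self f.ne_one (hc.is_comm.comm r J)
  -- the Sylow 7-subgroups
  have hfac : (1512 : ℕ).factorization 7 = 1 := by
    rw [show 1512 = 7 ^ 1 * 216 by norm_num, Nat.factorization_mul (by norm_num) (by norm_num),
      Finsupp.add_apply, Nat.Prime.factorization_pow (by norm_num), Finsupp.single_eq_same,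
      Nat.factorization_eq_zero_of_not_dvd (by norm_num)]
  let Q₀ : Sylow 7 G := Sylow.ofCard (zpowers r) (by rw [Nat.card_zpowers, hr, f.card_group hns, hfac, pow_one])
  have hQ : ∀ Q : Sylow 7 G, Nat.card (Q : Subgroup G) = 7 ∧
      Nat.card ↥(centralizer ((Q : Subgroup G) : Set G)) = 7 * 1 := by
    intro Q
    obtain ⟨g, rfl⟩ := MulAction.exists_smul_eq G Q₀ Q
    have hmem : ∀ y, y ∈ ((g • Q₀ : Sylow 7 G) : Subgroup G) ↔ g⁻¹ * y * g ∈ zpowers r := by
      intro y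
      rw [Sylow.coe_subgroup_smul, mem_pointwise_smul_iff_inv_smul_mem, MulAut.smul_def]
      simp only [MulAut.conj_inv_apply]
      rfl
    refine ⟨?_, ?_⟩
    · refine Eq.trans ?_ ((Nat.card_zpowers r).trans hr)
      exact Nat.card_congr ((MulAut.conj g⁻¹).toEquiv.subtypeEquiv fun y => by
        show y ∈ _ ↔ g⁻¹ * y * g⁻¹⁻¹ ∈ zpowers r
        rw [inv_inv]
        exact hmem y)
    · refine Eq.trans ?_ (hC.trans (mul_one 7).symm)
      refine Nat.card_congr ((MulAut.conj g⁻¹).toEquiv.subtypeEquiv fun x => ?_)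
      show x ∈ centralizer _ ↔ g⁻¹ * x * g⁻¹⁻¹ ∈ centralizer _
      rw [inv_inv, mem_centralizer_singleton_iff, mem_centralizer_iff]
      constructor
      · intro h
        have h' := h (g * r * g⁻¹) ((hmem _).2 (by simpa [mul_assoc] using mem_zpowers r))
        calc g⁻¹ * x * g * r = g⁻¹ * (x * (g * r * g⁻¹)) * g := by group
          _ = r * (g⁻¹ * x * g) := by rw [← h']; group
      · intro h y hy
        obtain ⟨i, hi⟩ := mem_zpowers_iff.1 ((hmem y).1 hy)
        have hc : Commute (g⁻¹ * x * g) (r ^ i) := Commute.zpow_right h i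
        rw [hi] at hc
        calc y * x = g * ((g⁻¹ * y * g) * (g⁻¹ * x * g)) * g⁻¹ := by group
          _ = x * y := by rw [← hc.eq]; group
  refine CfsgLib.ThirtySixForty.false_of_fifteen_twelve hG (f.card_group hns) ⟨by norm_num, ?_, ?_, hQ⟩
  · show ¬ 7 ^ 2 ∣ Nat.card G
    rw [f.card_group hns]; norm_num
  · show Nat.card (Sylow 7 G) = 36
    have h := CfsgLib.SmallSimple.card_sylow_mul Q₀
    rw [show ((Q₀ : Subgroup G)) = zpowers r from rfl, hN, f.card_group hns] at h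
    omega

theorem exists_aut (f : Four J T P) (hns : ¬ Group.IsSolvable G) :
    ∃ (F : Type) (_ : Field F) (_ : Fintype F), Fintype.card F = 8 ∧
      Nonempty (G ≃* MulAut (Matrix.ProjectiveSpecialLinearGroup (Fin 2) F)) := by
  classical
  haveI : Fact (Nat.Prime 2) := ⟨Nat.prime_two⟩
  haveI := f.invGen_simple hns
  obtain ⟨r, hr, hrH, hrI, -, -⟩ := f.exists_seven hns
  haveI : Fintype (GaloisField 2 3) := Fintype.ofFinite _
  have hFn : Nat.card (GaloisField 2 3) = 8 := GaloisField.card 2 3 (by norm_num)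
  have hF : Fintype.card (GaloisField 2 3) = 8 := by rw [← Nat.card_eq_fintype_card, hFn]
  obtain ⟨e1⟩ := CfsgLib.SmallSimple.FiveOhFour.nonempty_mulEquiv_pgl (G := ↥(invGen G))
    (f.card_invGen hns) (GaloisField 2 3) hFn
  have hpgl : Nat.card (Matrix.ProjGenLinGroup (Fin 2) (GaloisField 2 3)) = 504 := by
    rw [← Nat.card_congr e1.toEquiv, f.card_invGen hns]
  haveI : Finite (Matrix.ProjGenLinGroup (Fin 2) (GaloisField 2 3)) :=
    Nat.finite_of_card_ne_zero (by omega)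
  have hcards : Nat.card (Matrix.ProjectiveSpecialLinearGroup (Fin 2) (GaloisField 2 3)) =
      Nat.card (Matrix.ProjGenLinGroup (Fin 2) (GaloisField 2 3)) := by
    have h := CfsgLib.Linear.gcd_mul_card_PSL (ι := Fin 2) (F := GaloisField 2 3)
    rw [CfsgLib.Linear.card_PGL, ← h, Fintype.card_fin, hFn]
    norm_num
  let e2 : Matrix.ProjectiveSpecialLinearGroup (Fin 2) (GaloisField 2 3) ≃*
      Matrix.ProjGenLinGroup (Fin 2) (GaloisField 2 3) :=
    MulEquiv.ofBijective Matrix.ProjectiveSpecialLinearGroup.toPGL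
      (Matrix.ProjectiveSpecialLinearGroup.toPGL_injective.bijective_of_nat_card_le hcards.ge)
  let e := e1.trans e2.symm
  haveI := invGen_normal (G := G)
  have hinj : Function.Injective (MulAut.conjNormal : G →* MulAut ↥(invGen G)) := by
    refine (injective_iff_map_eq_one _).2 fun x hx => ?_
    have hc : ∀ y ∈ invGen G, y * x = x * y := fun y hy => by
      have h1 := congrArg Subtype.val (DFunLike.congr_fun hx ⟨y, hy⟩)
      rw [MulAut.conjNormal_apply] at h1
      exact (mul_inv_eq_iff_eq_mul.1 h1).symm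
    have hxP := f.self_cent fun p hp => hc p (f.le_invGen hp)
    by_contra hx1
    exact f.not_commute_seven hr (f.data.sylow_sq f.le hxP) hx1 (hc r hrI)
  let eA : MulAut ↥(invGen G) ≃* MulAut (Matrix.ProjectiveSpecialLinearGroup (Fin 2) (GaloisField 2 3)) :=
    MulAut.congr e
  have hA : Nat.card (MulAut (Matrix.ProjectiveSpecialLinearGroup (Fin 2) (GaloisField 2 3))) = 1512 := by
    obtain ⟨ea⟩ := CfsgLib.AutPSL.nonempty_ringAut_equiv (F := GaloisField 2 3) (p := 2) (f := 3)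
      (by norm_num) (by rw [hF]; norm_num)
    obtain ⟨E⟩ := CfsgLib.AutPSL.nonempty_inndiag_equiv_PGL (n := 2) (F := GaloisField 2 3) le_rfl
    rw [CfsgLib.AutPSL.card_eq_card_mul_ker _ CfsgLib.AutPSL.fieldData_surjective, CfsgLib.AutPSL.ker_fieldData,
      Nat.card_congr E.toEquiv, Nat.card_congr ea.toEquiv, Nat.card_congr Multiplicative.toAdd, Nat.card_zmod,
      hpgl]
  haveI : Finite (MulAut (Matrix.ProjectiveSpecialLinearGroup (Fin 2) (GaloisField 2 3))) :=
    Nat.finite_of_card_ne_zero (by omega)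
  refine ⟨GaloisField 2 3, inferInstance, inferInstance, hF, ⟨MulEquiv.ofBijective
    (eA.toMonoidHom.comp MulAut.conjNormal) ?_⟩⟩
  exact (eA.injective.comp hinj).bijective_of_nat_card_le (by rw [hA, f.card_group hns])

end Four

end CfsgLib.TwoAlt
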