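import Mathlib.GroupTheory.Perm.Sign
import Mathlib.GroupTheory.SpecificGroups.Alternating
import Mathlib.GroupTheory.Commutator.Basic
import Mathlib.Data.Fintype.Perm

/-!
An involution of `A_m`, `m ≥ 6`, is in the derived subgroup of its centraliser.
-/

set_option autoImplicit false

namespace CfsgLib.TwoAlt

open Equiv Equiv.Perm

variable {α : Type*} [DecidableEq α] [Fintype α]

/-- The derived subgroup of the centraliser of `σ` in the alternating group. -/
def derC (σ : Perm α) : Subgroup (Perm α) :=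
  ⁅alternatingGroup α ⊓ Subgroup.centralizer ({σ} : Set (Perm α)),
    alternatingGroup α ⊓ Subgroup.centralizer ({σ} : Set (Perm α))⁆

theorem commute_swap {σ : Perm α} {a b : α} (h : σ a = b ∧ σ b = a ∨ σ a = a ∧ σ b = b) :
    σ * swap a b = swap a b * σ := by
  rw [Equiv.mul_swap_eq_swap_mul]
  rcases h with ⟨ha, hb⟩ | ⟨ha, hb⟩
  · rw [ha, hb, swap_comm]
  · rw [ha, hb]

theorem sign_pair {a b c d : α} (hab : a ≠ b) (hcd : c ≠ d) :
    Perm.sign (swap a b * swap c d) = 1 := by
  rw [map_mul, sign_swap hab, sign_swap hcd]; decide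

theorem mem_cent {σ g : Perm α} (h1 : Perm.sign g = 1) (h2 : σ * g = g * σ) :
    g ∈ alternatingGroup α ⊓ Subgroup.centralizer ({σ} : Set (Perm α)) :=
  ⟨mem_alternatingGroup.2 h1, Subgroup.mem_centralizer_singleton_iff.2 h2.symm⟩

/-- The product of two transpositions of an involution is a commutator in its centraliser, once
there is a third transposition or a pair of fixed points. -/
theorem pair_mem {σ : Perm α} (hσ : σ * σ = 1) {a c x y : α} (ha : σ a ≠ a) (hc : σ c ≠ c)
    (hca : c ≠ a) (hcb : c ≠ σ a) (hxy : x ≠ y) (hxy' : σ x = y ∧ σ y = x ∨ σ x = x ∧ σ y = y)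
    (hx : x ≠ a ∧ x ≠ σ a ∧ x ≠ c ∧ x ≠ σ c) (hy : y ≠ a ∧ y ≠ σ a ∧ y ≠ c ∧ y ≠ σ c) :
    swap a (σ a) * swap c (σ c) ∈ derC σ := by
  have hinv : ∀ z, σ (σ z) = z := fun z => by
    rw [← Perm.mul_apply, hσ, Perm.one_apply]
  have hda : σ c ≠ a := fun e => hcb (by rw [← e, hinv])
  have hdb : σ c ≠ σ a := fun e => hca (σ.injective e)
  set b := σ a with hb
  set d := σ c with hd
  set s := swap a c * swap b d with hs
  set w := swap a b * swap x y with hw
  have hbd : b ≠ d := hdb.symm
  have hσb : σ b = a := hinv a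
  have hσd : σ d = c := hinv c
  have hcs : σ * s = s * σ := by
    calc σ * s = σ * swap a c * swap b d := (mul_assoc _ _ _).symm
      _ = swap (σ a) (σ c) * σ * swap b d := by rw [Equiv.mul_swap_eq_swap_mul σ a c]
      _ = swap b d * (σ * swap b d) := by rw [← hb, ← hd, mul_assoc]
      _ = swap b d * swap a c * σ := by rw [Equiv.mul_swap_eq_swap_mul σ b d, hσb, hσd, mul_assoc]
      _ = s * σ := ?_
    rw [hs]
    congr 1
    exact Perm.Disjoint.commute fun z => by
      by_cases hz : z = a ∨ z = c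
      · left
        rcases hz with rfl | rfl
        · exact swap_apply_of_ne_of_ne ha.symm hda.symm
        · exact swap_apply_of_ne_of_ne hcb hc.symm
      · rw [not_or] at hz
        exact Or.inr (swap_apply_of_ne_of_ne hz.1 hz.2)
  have hcw : σ * w = w * σ := by
    rw [hw, ← mul_assoc, commute_swap (Or.inl ⟨hb.symm, by rw [hb, hinv]⟩), mul_assoc,
      commute_swap hxy', ← mul_assoc]
  have hs1 : Perm.sign s = 1 := sign_pair hca.symm hbd
  have hw1 : Perm.sign w = 1 := sign_pair ha.symm hxy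
  have hss : s⁻¹ = s := by
    rw [hs, mul_inv_rev, swap_inv, swap_inv]
    exact (Perm.Disjoint.commute fun z => by
      by_cases hz : z = a ∨ z = c
      · left
        rcases hz with rfl | rfl
        · exact swap_apply_of_ne_of_ne ha.symm hda.symm
        · exact swap_apply_of_ne_of_ne hcb hc.symm
      · rw [not_or] at hz
        exact Or.inr (swap_apply_of_ne_of_ne hz.1 hz.2))
  have hsa : s a = c := by
    rw [hs, Perm.mul_apply, swap_apply_of_ne_of_ne ha.symm hda.symm, swap_apply_left]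
  have hsb : s b = d := by
    rw [hs, Perm.mul_apply, swap_apply_left, swap_apply_of_ne_of_ne hda hc]
  have hsx : s x = x := by
    rw [hs, Perm.mul_apply, swap_apply_of_ne_of_ne hx.2.1 hx.2.2.2,
      swap_apply_of_ne_of_ne hx.1 hx.2.2.1]
  have hsy : s y = y := by
    rw [hs, Perm.mul_apply, swap_apply_of_ne_of_ne hy.2.1 hy.2.2.2,
      swap_apply_of_ne_of_ne hy.1 hy.2.2.1]
  have hdis : swap x y * swap c d = swap c d * swap x y :=
    (Perm.Disjoint.commute fun z => by
      by_cases hz : z = x ∨ z = y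
      · right
        rcases hz with rfl | rfl
        · exact swap_apply_of_ne_of_ne hx.2.2.1 hx.2.2.2
        · exact swap_apply_of_ne_of_ne hy.2.2.1 hy.2.2.2
      · rw [not_or] at hz
        exact Or.inl (swap_apply_of_ne_of_ne hz.1 hz.2))
  have key : w * s * w⁻¹ * s⁻¹ = swap a b * swap c d := by
    have e : s * w⁻¹ * s⁻¹ = swap x y * swap c d := by
      rw [hw, mul_inv_rev, swap_inv, swap_inv,
        show s * (swap x y * swap a b) * s⁻¹ = s * swap x y * s⁻¹ * (s * swap a b * s⁻¹) by group,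
        ← swap_apply_apply, ← swap_apply_apply, hsa, hsb, hsx, hsy]
    calc w * s * w⁻¹ * s⁻¹ = w * (s * w⁻¹ * s⁻¹) := by group
      _ = swap a b * (swap x y * swap x y) * swap c d := by rw [e, hw]; group
      _ = swap a b * swap c d := by rw [swap_mul_self, mul_one]
  rw [← key]
  exact Subgroup.commutator_mem_commutator (mem_cent hw1 hcw) (mem_cent hs1 hcs)

theorem exists_third {σ : Perm α} (hσ : σ * σ = 1) (h6 : 6 ≤ Fintype.card α) {a c : α} :
    ∃ x y : α, x ≠ y ∧ (σ x = y ∧ σ y = x ∨ σ x = x ∧ σ y = y) ∧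
      (x ≠ a ∧ x ≠ σ a ∧ x ≠ c ∧ x ≠ σ c) ∧ (y ≠ a ∧ y ≠ σ a ∧ y ≠ c ∧ y ≠ σ c) := by
  have hinv : ∀ z, σ (σ z) = z := fun z => by
    rw [← Perm.mul_apply, hσ, Perm.one_apply]
  set S : Finset α := {a, σ a, c, σ c} with hS
  have hmem : ∀ {z : α}, z ∉ S → z ≠ a ∧ z ≠ σ a ∧ z ≠ c ∧ z ≠ σ c := fun {z} hz => by
    simpa [hS, not_or] using hz
  have hSc : S.card ≤ 4 := by
    rw [hS]
    exact (Finset.card_insert_le _ _).trans (Nat.succ_le_succ
      ((Finset.card_insert_le _ _).trans (Nat.succ_le_succ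
        ((Finset.card_insert_le _ _).trans (Nat.succ_le_succ (le_of_eq (Finset.card_singleton _)))))))
  by_cases hex : ∃ x ∉ S, σ x ≠ x
  · obtain ⟨x, hxS, hx⟩ := hex
    obtain ⟨h1, h2, h3, h4⟩ := hmem hxS
    refine ⟨x, σ x, hx.symm, Or.inl ⟨rfl, hinv x⟩, ⟨h1, h2, h3, h4⟩, ?_, ?_, ?_, ?_⟩
    · exact fun e => h2 (by rw [← e, hinv])
    · exact fun e => h1 (σ.injective e)
    · exact fun e => h4 (by rw [← e, hinv])
    · exact fun e => h3 (σ.injective e)
  · push Not at hex
    have h2 : 1 < (Finset.univ \ S).card := by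
      rw [Finset.card_sdiff_of_subset (Finset.subset_univ S), Finset.card_univ]; omega
    obtain ⟨x, hx, y, hy, hne⟩ := Finset.one_lt_card.1 h2
    rw [Finset.mem_sdiff] at hx hy
    exact ⟨x, y, hne, Or.inr ⟨hex x hx.2, hex y hy.2⟩, hmem hx.2, hmem hy.2⟩

theorem mem_derC_aux {σ : Perm α} (hσ : σ * σ = 1) (h6 : 6 ≤ Fintype.card α) :
    ∀ n, ∀ ρ : Perm α, (Finset.univ.filter fun z => ρ z ≠ z).card = n → Perm.sign ρ = 1 →
      (∀ z, ρ z = z ∨ ρ z = σ z) → ρ ∈ derC σ := by
  intro n
  induction n using Nat.strong_induction_on with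
  | _ n ih =>
    intro ρ hn h1 h2
    by_cases hρ : ρ = 1
    · rw [hρ]; exact one_mem _
    have hinv : ∀ z, σ (σ z) = z := fun z => by
      rw [← Perm.mul_apply, hσ, Perm.one_apply]
    have hρσ : ∀ z, ρ z ≠ z → ρ (σ z) = z := fun z hz => by
      have he : ρ z = σ z := (h2 z).resolve_left hz
      rcases h2 (σ z) with e | e
      · exact absurd (ρ.injective (e.trans he.symm)) fun e' => hz (he.trans e')
      · rw [e, hinv]
    obtain ⟨a, ha⟩ : ∃ a, ρ a ≠ a := by
      by_contra h
      push Not at h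
      exact hρ (Equiv.ext h)
    have hab : ρ a = σ a := (h2 a).resolve_left ha
    obtain ⟨c, hc, hca, hcb⟩ : ∃ c, ρ c ≠ c ∧ c ≠ a ∧ c ≠ σ a := by
      by_contra h
      push Not at h
      have e : ρ = swap a (σ a) := by
        ext z
        by_cases hz : ρ z = z
        · rw [hz, swap_apply_of_ne_of_ne]
          · rintro rfl; exact ha hz
          · rintro rfl
            exact ha (hab.trans (hz.symm.trans (hρσ a ha)))
        · by_cases hza : z = a
          · rw [hza, swap_apply_left, hab]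
          · rw [h z hz hza, swap_apply_right, hρσ a ha]
      rw [e, sign_swap (hab ▸ ha.symm)] at h1
      exact absurd h1 (by decide)
    have hcd : ρ c = σ c := (h2 c).resolve_left hc
    obtain ⟨x, y, hxy, hxy', hx, hy⟩ := exists_third hσ h6 (a := a) (c := c)
    have ha' : σ a ≠ a := hab ▸ ha
    have hc' : σ c ≠ c := hcd ▸ hc
    have hp := pair_mem hσ ha' hc' hca hcb hxy hxy' hx hy
    set τ := swap a (σ a) * swap c (σ c) with hτ
    have hda : σ c ≠ a := fun e => hcb (by rw [← e, hinv])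
    have hdb : σ c ≠ σ a := fun e => hca (σ.injective e)
    have hτfix : ∀ z, z ≠ a → z ≠ σ a → z ≠ c → z ≠ σ c → τ z = z := fun z z1 z2 z3 z4 => by
      rw [hτ, Perm.mul_apply, swap_apply_of_ne_of_ne z3 z4, swap_apply_of_ne_of_ne z1 z2]
    have hρ' : ∀ z, (ρ * τ) z = if z = a ∨ z = σ a ∨ z = c ∨ z = σ c then z else ρ z := by
      intro z
      split_ifs with hz
      · rcases hz with rfl | rfl | rfl | rfl
        · rw [Perm.mul_apply, hτ, Perm.mul_apply, swap_apply_of_ne_of_ne hca.symm hda.symm,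
            swap_apply_left, hρσ z ha]
        · rw [Perm.mul_apply, hτ, Perm.mul_apply, swap_apply_of_ne_of_ne hcb.symm hdb.symm,
            swap_apply_right, hab]
        · rw [Perm.mul_apply, hτ, Perm.mul_apply, swap_apply_left,
            swap_apply_of_ne_of_ne hda hdb, hρσ z hc]
        · rw [Perm.mul_apply, hτ, Perm.mul_apply, swap_apply_right,
            swap_apply_of_ne_of_ne hca hcb, hcd]
      · rw [not_or, not_or, not_or] at hz
        rw [Perm.mul_apply, hτfix z hz.1 hz.2.1 hz.2.2.1 hz.2.2.2]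
    have hlt : (Finset.univ.filter fun z => (ρ * τ) z ≠ z).card < n := by
      rw [← hn]
      refine Finset.card_lt_card ((Finset.ssubset_iff_of_subset ?_).2 ⟨a, ?_, ?_⟩)
      · intro z hz
        simp only [Finset.mem_filter, Finset.mem_univ, true_and, ne_eq, hρ' z] at hz ⊢
        split_ifs at hz with h
        · exact absurd rfl hz
        · exact hz
      · simp [ha]
      · rw [Finset.mem_filter, hρ' a]
        simp
    have hτ1 : Perm.sign τ = 1 := sign_pair ha'.symm hc'.symm
    have hρτ := ih _ hlt (ρ * τ) rfl (by rw [map_mul, h1, hτ1, one_mul]) fun z => by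
      rw [hρ' z]
      split_ifs
      · exact Or.inl rfl
      · exact h2 z
    have := mul_mem hρτ (inv_mem hp)
    rwa [mul_inv_cancel_right] at this

/-- An even involution of `S_α`, with `|α| ≥ 6`, is a product of commutators of its centraliser. -/
theorem mem_derC {σ : Perm α} (hσ : σ * σ = 1) (h1 : Perm.sign σ = 1) (h6 : 6 ≤ Fintype.card α) :
    σ ∈ derC σ :=
  mem_derC_aux hσ h6 _ σ rfl h1 fun _ => Or.inr rfl

end CfsgLib.TwoAlt
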