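import Cfsg.Agent.TwoAlt.FourLocal
import Mathlib.GroupTheory.SpecificGroups.Cyclic

/-!
Centraliser `⟨J⟩ × A₄`: the Sylow normaliser has index nine, so the group has order 1512.
-/

set_option autoImplicit false
set_option linter.unusedSectionVars false

namespace CfsgLib.TwoAlt

open Subgroup MulAction

variable {G : Type*} [Group G] [Finite G]

theorem ord_two {v : G} (h : v * v = 1) (h1 : v ≠ 1) : orderOf v = 2 :=
  orderOf_eq_prime (by rw [sq, h]) h1

theorem sq_of_ord {v : G} (h : orderOf v = 2) : v * v = 1 ∧ v ≠ 1 :=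
  ⟨by rw [← sq, ← h, pow_orderOf_eq_one], fun e => by rw [e, orderOf_one] at h; omega⟩

theorem zpowers_eq_of_seven {D : Subgroup G} {a b : G} (ha : a ∈ D) (hb : b ∈ D) (oa : orderOf a = 7)
    (ob : orderOf b = 7) (hD : Nat.card ↥D ≤ 21) : zpowers a = zpowers b := by
  by_contra hne
  haveI : Fact (Nat.Prime 7) := ⟨by norm_num⟩
  have hca : Nat.card ↥(zpowers a) = 7 := by rw [Nat.card_zpowers, oa]
  have hcb : Nat.card ↥(zpowers b) = 7 := by rw [Nat.card_zpowers, ob]
  have hinf : ∀ x, x ∈ zpowers a → x ∈ zpowers b → x = 1 := by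
    intro x hxa hxb
    by_contra hx1
    have hx7 : orderOf x = 7 := by
      have h1 := Subgroup.orderOf_dvd_natCard _ hxa
      rw [hca] at h1
      exact ((Nat.dvd_prime (by norm_num)).1 h1).resolve_left fun h => hx1 (orderOf_eq_one_iff.1 h)
    have e1 := eq_of_le_of_card_ge (zpowers_le.2 hxa) (by rw [hca, Nat.card_zpowers, hx7])
    have e2 := eq_of_le_of_card_ge (zpowers_le.2 hxb) (by rw [hcb, Nat.card_zpowers, hx7])
    exact hne (e1.symm.trans e2)
  let F : ↥(zpowers a) × ↥(zpowers b) → ↥D :=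
    fun p => ⟨p.1 * p.2, mul_mem (zpowers_le.2 ha p.1.2) (zpowers_le.2 hb p.2.2)⟩
  have hF : Function.Injective F := by
    rintro ⟨x, y⟩ ⟨x', y'⟩ h
    have e : (x : G) * y = x' * y' := congrArg Subtype.val h
    have h1 : (x' : G)⁻¹ * x = y' * (y : G)⁻¹ := by
      calc (x' : G)⁻¹ * x = (x' : G)⁻¹ * (x * y) * (y : G)⁻¹ := by group
        _ = y' * (y : G)⁻¹ := by rw [e]; group
    have h2 := hinf _ (mul_mem (inv_mem x'.2) x.2) (h1 ▸ mul_mem y'.2 (inv_mem y.2))
    have hx : x = x' := Subtype.ext (inv_mul_eq_one.1 h2).symm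
    subst hx
    exact Prod.ext rfl (Subtype.ext (mul_left_cancel e))
  have := Nat.card_le_card_of_injective F hF
  rw [Nat.card_prod, hca, hcb] at this
  omega

theorem conj_mem_zpowers {a b x : G} (h : x * a * x⁻¹ ∈ zpowers b) {y : G} (hy : y ∈ zpowers a) :
    x * y * x⁻¹ ∈ zpowers b := by
  obtain ⟨k, rfl⟩ := mem_zpowers_iff.1 hy
  rw [← conj_zpow]
  exact Subgroup.zpow_mem _ h k

theorem mem_normalizer_zpowers {a x : G} (h : zpowers (x * a * x⁻¹) = zpowers a) :
    x ∈ normalizer ((zpowers a : Subgroup G) : Set G) := by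
  rw [mem_normalizer_iff]
  intro y
  have h2 : x⁻¹ * a * x ∈ zpowers a := by
    obtain ⟨k, hk⟩ := mem_zpowers_iff.1 (h.symm ▸ mem_zpowers a : a ∈ zpowers (x * a * x⁻¹))
    refine mem_zpowers_iff.2 ⟨k, ?_⟩
    rw [conj_zpow] at hk
    calc a ^ k = x⁻¹ * (x * a ^ k * x⁻¹) * x := by group
      _ = x⁻¹ * a * x := by rw [hk]
  refine ⟨conj_mem_zpowers (h ▸ mem_zpowers _), fun hy => ?_⟩
  have h3 := conj_mem_zpowers (a := a) (b := a) (x := x⁻¹) (by rw [inv_inv]; exact h2) hy
  simpa [mul_assoc] using h3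

variable {J : G} {T : Subgroup G} {P : Sylow 2 G}

/-- The Sylow normaliser. -/
abbrev nP (P : Sylow 2 G) : Subgroup G := normalizer ((P : Subgroup G) : Set G)

namespace Four

theorem card_invol_H (f : Four J T P) :
    Nat.card {v : G // orderOf v = 2 ∧ v ∈ (nP P)} = 7 := by
  rw [← f.card_invols]
  refine Nat.card_congr (Equiv.subtypeEquivRight fun v => ⟨fun h => ?_, fun h => ?_⟩)
  · exact ⟨f.mem_of_norm_sq h.2 (sq_of_ord h.1).1, (sq_of_ord h.1).2⟩
  · exact ⟨ord_two (f.data.sylow_sq f.le h.1) h.2, le_normalizer h.1⟩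

theorem exists_out (f : Four J T P) (hns : ¬ Group.IsSolvable G) : ∃ u : G, orderOf u = 2 ∧ u ∉ (nP P) := by
  obtain ⟨g, -, hg⟩ := SetLike.exists_of_lt (lt_top_iff_ne_top.2 (f.norm_ne_top hns))
  refine ⟨g * J * g⁻¹, ord_two (conj_sq g f.data.mul_self) (fun h => f.ne_one (conj_eq_one_iff.1 h)), fun h => hg ?_⟩
  exact f.mem_norm f.mem f.ne_one (f.mem_of_norm_sq h (conj_sq g f.data.mul_self))

theorem mem_stab_iff (f : Four J T P) {d u : G} (hu : orderOf u = 2) :
    d ∈ (nP P) ⊓ (nP P).map (MulAut.conj u).toMonoidHom ↔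
      d • (QuotientGroup.mk (1 : G) : G ⧸ (nP P)) = QuotientGroup.mk 1 ∧
        d • (u • (QuotientGroup.mk (1 : G) : G ⧸ (nP P))) = u • (QuotientGroup.mk (1 : G) : G ⧸ (nP P)) := by
  rw [StrongEmbed.mem_inf_conj_iff, StrongEmbed.smul_mk_one_iff, StrongEmbed.smul_mk_one_eq,
    StrongEmbed.smul_mk_iff]

theorem card_pair (f : Four J T P) (hns : ¬ Group.IsSolvable G) {u : G} (hu : orderOf u = 2)
    (huH : u ∉ (nP P)) :
    Nat.card ↥((nP P) ⊓ (nP P).map (MulAut.conj u).toMonoidHom) = 7 ∨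
      Nat.card ↥((nP P) ⊓ (nP P).map (MulAut.conj u).toMonoidHom) = 21 := by
  set D := (nP P) ⊓ (nP P).map (MulAut.conj u).toMonoidHom with hD
  have hodd : Odd (Nat.card ↥D) := (f.strongly hns).2.2 u huH
  have h7 : 7 ∣ Nat.card ↥D := by
    rw [f.card_transitive D inf_le_left fun v hv hv1 =>
      StrongEmbed.exists_conj_in_stabilizer (f.strongly hns) hu huH f.data.ord (le_normalizer f.mem)
        (ord_two (f.data.sylow_sq f.le hv) hv1) (le_normalizer hv)]
    exact dvd_mul_right 7 _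
  have h168 : Nat.card ↥D ∣ 168 := f.card_norm ▸ card_dvd_of_le inf_le_left
  have key : ∀ n ∈ Nat.divisors 168, 7 ∣ n → n % 2 = 1 → n = 7 ∨ n = 21 := by decide
  exact key _ (Nat.mem_divisors.2 ⟨h168, by norm_num⟩) h7 (Nat.odd_iff.1 hodd)

/-- A pair of points is fixed by at most one group of order seven. -/
theorem pair_unique (f : Four J T P) (hns : ¬ Group.IsSolvable G) {x z : G ⧸ (nP P)} (hxz : x ≠ z) {a b : G}
    (oa : orderOf a = 7) (ob : orderOf b = 7) (hax : a • x = x) (haz : a • z = z) (hbx : b • x = x)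
    (hbz : b • z = z) : zpowers a = zpowers b := by
  obtain ⟨g, rfl⟩ := QuotientGroup.mk_surjective x
  set o : G ⧸ (nP P) := QuotientGroup.mk 1 with ho
  have hgo : g • o = QuotientGroup.mk g := StrongEmbed.smul_mk_one_eq
  have hne : o ≠ g⁻¹ • z := fun h => hxz (by rw [← hgo, h, smul_inv_smul])
  obtain ⟨u, hu, huo⟩ := StrongEmbed.exists_swap (f.strongly hns) hne
  have huH : u ∉ (nP P) := fun h => hne (by rw [← huo, ho, StrongEmbed.smul_mk_one_iff.2 h])
  have hfix : ∀ {c : G}, c • (QuotientGroup.mk g : G ⧸ (nP P)) = QuotientGroup.mk g → c • z = z →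
      g⁻¹ * c * g ∈ (nP P) ⊓ (nP P).map (MulAut.conj u).toMonoidHom := by
    intro c h1 h2
    rw [f.mem_stab_iff hu, huo]
    constructor
    · rw [mul_smul, mul_smul, hgo, h1, ← hgo, inv_smul_smul]
    · rw [mul_smul, mul_smul, smul_inv_smul, h2]
  have hle : Nat.card ↥((nP P) ⊓ (nP P).map (MulAut.conj u).toMonoidHom) ≤ 21 := by
    rcases f.card_pair hns hu huH with h | h <;> omega
  have ord : ∀ c : G, orderOf (g⁻¹ * c * g) = orderOf c := fun c => by
    simpa using CfsgLib.Invol.orderOf_conj_eq g⁻¹ c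
  have e := zpowers_eq_of_seven (hfix hax haz) (hfix hbx hbz) (by rw [ord, oa]) (by rw [ord, ob]) hle
  obtain ⟨k, hk⟩ := mem_zpowers_iff.1 (e ▸ mem_zpowers (g⁻¹ * a * g) : g⁻¹ * a * g ∈ zpowers (g⁻¹ * b * g))
  have hab : a ∈ zpowers b := by
    refine mem_zpowers_iff.2 ⟨k, ?_⟩
    rw [show g⁻¹ * b * g = g⁻¹ * b * g⁻¹⁻¹ by rw [inv_inv], conj_zpow, inv_inv] at hk
    exact mul_left_cancel (mul_right_cancel hk)
  exact eq_of_le_of_card_ge (zpowers_le.2 hab) (by rw [Nat.card_zpowers, Nat.card_zpowers, oa, ob])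

/-- An involution swapping two fixed points of a group of order seven normalises it. -/
theorem pair_norm (f : Four J T P) (hns : ¬ Group.IsSolvable G) {x z : G ⧸ (nP P)} (hxz : x ≠ z) {a i : G}
    (oa : orderOf a = 7) (hax : a • x = x) (haz : a • z = z) (hi : orderOf i = 2) (hix : i • x = z) :
    i ∈ normalizer ((zpowers a : Subgroup G) : Set G) := by
  have hii : i⁻¹ = i := inv_eq_of_mul_eq_one_right (sq_of_ord hi).1
  have hiz : i • z = x := by rw [← hix, smul_smul, (sq_of_ord hi).1, one_smul]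
  refine mem_normalizer_zpowers (f.pair_unique hns hxz ?_ oa ?_ ?_ hax haz)
  · rw [CfsgLib.Invol.orderOf_conj_eq, oa]
  · rw [mul_smul, mul_smul, hii, hix, haz, hiz]
  · rw [mul_smul, mul_smul, hii, hiz, hax, hix]

theorem not_commute_seven (f : Four J T P) {r v : G} (hr : orderOf r = 7) (hv : v * v = 1) (hv1 : v ≠ 1) :
    r * v ≠ v * r := fun h => by
  have := Subgroup.orderOf_dvd_natCard _ (mem_centralizer_singleton_iff.2 h : r ∈ centralizer ({v} : Set G))
  rw [hr, f.card_cent_conj hv hv1] at this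
  omega

/-- An element of order seven of `N(P)` is transitive on the involutions of `P`. -/
theorem seven_transitive (f : Four J T P) {r : G} (hr : orderOf r = 7) (hrH : r ∈ (nP P)) :
    ∀ v ∈ (P : Subgroup G), v ≠ 1 → ∃ k ∈ zpowers r, k * J * k⁻¹ = v := by
  haveI : Fact (Nat.Prime 7) := ⟨by norm_num⟩
  intro v hv hv1
  have hc : Nat.card ↥(zpowers r) = 7 := by rw [Nat.card_zpowers, hr]
  let F : ↥(zpowers r) → {w : G // w ∈ (P : Subgroup G) ∧ w ≠ 1} := fun k =>
    ⟨(k : G) * J * (k : G)⁻¹, (mem_normalizer_iff.1 (zpowers_le.2 hrH k.2) J).1 f.mem,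
      fun h => f.ne_one (conj_eq_one_iff.1 h)⟩
  have hF : Function.Injective F := fun a b h => by
    have h' : (a : G) * J * (a : G)⁻¹ = b * J * (b : G)⁻¹ := congrArg Subtype.val h
    by_contra hne
    have hk1 : (b : G)⁻¹ * a ≠ 1 := fun e => hne (Subtype.ext (inv_mul_eq_one.1 e).symm)
    have hk7 : orderOf ((b : G)⁻¹ * a) = 7 := by
      have h1 := Subgroup.orderOf_dvd_natCard _ (mul_mem (inv_mem b.2) a.2 : (b : G)⁻¹ * a ∈ zpowers r)
      rw [hc] at h1
      exact ((Nat.dvd_prime (by norm_num)).1 h1).resolve_left fun e => hk1 (orderOf_eq_one_iff.1 e)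
    refine f.not_commute_seven hk7 f.data.mul_self f.ne_one ?_
    calc (b : G)⁻¹ * a * J = (b : G)⁻¹ * (a * J * (a : G)⁻¹) * a := by group
      _ = J * ((b : G)⁻¹ * a) := by rw [h']; group
  haveI : Finite {w : G // w ∈ (P : Subgroup G) ∧ w ≠ 1} := Subtype.finite
  obtain ⟨k, hk⟩ := (hF.bijective_of_nat_card_le (by rw [f.card_invols, hc])).2 ⟨v, hv, hv1⟩
  exact ⟨k, k.2, congrArg Subtype.val hk⟩

/-- The normaliser of a Sylow 7-subgroup of `N(P)`. -/
theorem card_norm_seven (f : Four J T P) {r : G} (hr : orderOf r = 7) (hrH : r ∈ (nP P)) :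
    Nat.card ↥(normalizer ((zpowers r : Subgroup G) : Set G) ⊓ (nP P)) = 21 ∧
      Nat.card (Sylow 7 ↥((nP P))) = 8 := by
  haveI : Fact (Nat.Prime 7) := ⟨by norm_num⟩
  have hle : zpowers r ≤ (nP P) := zpowers_le.2 hrH
  let Q : Sylow 7 ↥((nP P)) := Sylow.ofCard ((zpowers r).subgroupOf (nP P)) (by
    rw [Nat.card_congr (subgroupOfEquivOfLe hle).toEquiv, Nat.card_zpowers, hr, f.card_norm,
      show 168 = 7 ^ 1 * 24 by norm_num, Nat.factorization_mul (by norm_num) (by norm_num),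
      Finsupp.add_apply, Nat.Prime.factorization_pow (by norm_num), Finsupp.single_eq_same,
      Nat.factorization_eq_zero_of_not_dvd (by norm_num), add_zero, pow_one])
  have hmod : Nat.card (Sylow 7 ↥((nP P))) % 7 = 1 := card_sylow_modEq_one 7 _
  have hmul := CfsgLib.SmallSimple.card_sylow_mul Q
  rw [f.card_norm] at hmul
  have hN : Nat.card ↥(normalizer ((Q : Subgroup ↥((nP P))) : Set ↥((nP P)))) =
      Nat.card ↥(normalizer ((zpowers r : Subgroup G) : Set G) ⊓ (nP P)) := by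
    have e : normalizer ((Q : Subgroup ↥((nP P))) : Set ↥((nP P))) =
        (normalizer ((zpowers r : Subgroup G) : Set G) ⊓ (nP P)).subgroupOf (nP P) := by
      ext x
      show x ∈ normalizer (((zpowers r).subgroupOf (nP P) : Subgroup ↥((nP P))) : Set ↥((nP P))) ↔ _
      rw [mem_subgroupOf, mem_inf, and_iff_left x.2, mem_normalizer_iff, mem_normalizer_iff]
      constructor
      · intro h y
        constructor
        · intro hy; exact (h ⟨y, hle hy⟩).1 hy
        · intro hy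
          have hyH : y ∈ (nP P) := by
            have := mul_mem (mul_mem (inv_mem x.2) (hle hy)) x.2
            simpa [mul_assoc] using this
          exact (h ⟨y, hyH⟩).2 hy
      · intro h y; exact h y
    rw [e]
    exact Nat.card_congr (subgroupOfEquivOfLe inf_le_right).toEquiv
  rw [hN] at hmul
  set n := Nat.card (Sylow 7 ↥((nP P)))
  set N := Nat.card ↥(normalizer ((zpowers r : Subgroup G) : Set G) ⊓ (nP P)) with hNdef
  have key : ∀ k ∈ Nat.divisors 168, k % 7 = 1 → k = 1 ∨ k = 8 := by decide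
  rcases key n (Nat.mem_divisors.2 ⟨Dvd.intro _ hmul, by norm_num⟩) hmod with h1 | h8
  · exfalso
    have htop : normalizer ((zpowers r : Subgroup G) : Set G) ⊓ (nP P) = (nP P) :=
      eq_of_le_of_card_ge inf_le_right (by rw [f.card_norm, ← hNdef]; rw [h1, one_mul] at hmul; omega)
    have hJn : J ∈ normalizer ((zpowers r : Subgroup G) : Set G) :=
      ((htop.symm ▸ le_normalizer f.mem : J ∈ normalizer ((zpowers r : Subgroup G) : Set G) ⊓ (nP P))).1
    have h1' : J * r * J⁻¹ * r⁻¹ ∈ zpowers r :=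
      mul_mem ((mem_normalizer_iff.1 hJn r).1 (mem_zpowers r)) (inv_mem (mem_zpowers r))
    have h2' : J * r * J⁻¹ * r⁻¹ ∈ (P : Subgroup G) := by
      rw [show J * r * J⁻¹ * r⁻¹ = J * (r * J⁻¹ * r⁻¹) by group]
      exact mul_mem f.mem ((mem_normalizer_iff.1 hrH _).1 (inv_mem f.mem))
    have h3 : J * r * J⁻¹ * r⁻¹ = 1 := by
      have h7 := Subgroup.orderOf_dvd_natCard _ h1'
      rw [Nat.card_zpowers, hr] at h7
      have h8 := Subgroup.orderOf_dvd_natCard _ h2'
      rw [f.card_sylow] at h8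
      have := Nat.dvd_gcd h7 h8
      exact orderOf_eq_one_iff.1 (Nat.dvd_one.1 (by simpa using this))
    exact f.not_commute_seven hr f.data.mul_self f.ne_one
      (mul_inv_eq_iff_eq_mul.1 (mul_inv_eq_one.1 h3)).symm
  · rw [h8] at hmul
    exact ⟨by omega, h8⟩

/-- An element of order three of the normaliser of an element of order seven acts nontrivially. -/
theorem three_not_commute (f : Four J T P) {r c : G} (hr : orderOf r = 7) (hrH : r ∈ (nP P))
    (hc : orderOf c = 3) (hcH : c ∈ (nP P)) : c * r ≠ r * c := by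
  intro h
  have h' : Commute c r := h
  have hc3 : c ^ 3 = 1 := by rw [← hc, pow_orderOf_eq_one]
  obtain ⟨k, hk, hkJ⟩ := f.seven_transitive hr hrH (c * J * c⁻¹)
    ((mem_normalizer_iff.1 hcH J).1 f.mem) (fun e => f.ne_one (conj_eq_one_iff.1 e))
  obtain ⟨i, rfl⟩ := mem_zpowers_iff.1 hk
  -- `(r^i)⁻¹ c` centralises `J`
  set d := (r ^ i)⁻¹ * c with hd
  have hdJ : d * J = J * d := by
    calc d * J = (r ^ i)⁻¹ * (c * J * c⁻¹) * c := by rw [hd]; group
      _ = J * d := by rw [← hkJ, hd]; group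
  have hd3 : d ^ 3 * J = J * d ^ 3 := (Commute.pow_left hdJ 3).eq
  rw [hd, ((h'.zpow_right i).inv_right.symm).mul_pow, hc3, mul_one] at hd3
  have h7 : (r ^ i)⁻¹ ^ 3 = 1 := by
    by_contra hne
    refine f.not_commute_seven ?_ f.data.mul_self f.ne_one hd3
    have h1 := Subgroup.orderOf_dvd_natCard (zpowers r) (pow_mem (inv_mem (zpow_mem (mem_zpowers r) i)) 3)
    rw [Nat.card_zpowers, hr] at h1
    exact ((Nat.dvd_prime (by norm_num)).1 h1).resolve_left fun e => hne (orderOf_eq_one_iff.1 e)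
  have hri : r ^ i = 1 := by
    have h1 : ((r ^ i)⁻¹) ^ 7 = 1 := by
      have h0 := pow_card_eq_one' (x := (⟨(r ^ i)⁻¹, inv_mem (zpow_mem (mem_zpowers r) i)⟩ : ↥(zpowers r)))
      rw [Nat.card_zpowers, hr] at h0
      exact congrArg Subtype.val h0
    have := pow_gcd_eq_one.mpr ⟨h7, h1⟩
    simpa using this
  rw [hri, one_mul, inv_one, mul_one] at hkJ
  have hcJ : Commute c J := mul_inv_eq_iff_eq_mul.1 hkJ.symm
  have hcP : c ∈ (P : Subgroup G) := f.self_cent fun p hp => by
    by_cases hp1 : p = 1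
    · rw [hp1, one_mul, mul_one]
    · obtain ⟨k, hk, rfl⟩ := f.seven_transitive hr hrH p hp hp1
      obtain ⟨i, rfl⟩ := mem_zpowers_iff.1 hk
      exact (((h'.zpow_right i).mul_right hcJ).mul_right (h'.zpow_right i).inv_right).eq.symm
  have := Subgroup.orderOf_dvd_natCard _ hcP
  rw [hc, f.card_sylow] at this
  omega

/-- The normaliser of a group of order seven. -/
theorem norm_seven (f : Four J T P) (hns : ¬ Group.IsSolvable G) {u r : G} (hu : orderOf u = 2)
    (huH : u ∉ (nP P)) (hr : orderOf r = 7)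
    (hrD : r ∈ (nP P) ⊓ (nP P).map (MulAut.conj u).toMonoidHom) :
    Nat.card ↥(normalizer ((zpowers r : Subgroup G) : Set G)) = 6 * Nat.card ↥(centralizer ({r} : Set G)) ∧
      Nat.card {v : G // orderOf v = 2 ∧ v ∈ normalizer ((zpowers r : Subgroup G) : Set G)} ≤
        Nat.card ↥(centralizer ({r} : Set G)) := by
  haveI : Fact (Nat.Prime 7) := ⟨by norm_num⟩
  haveI : Fact (Nat.Prime 3) := ⟨Nat.prime_three⟩
  set o : G ⧸ (nP P) := QuotientGroup.mk 1
  have hfix := (f.mem_stab_iff hu).1 hrD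
  have huN : u ∈ normalizer ((zpowers r : Subgroup G) : Set G) :=
    f.pair_norm hns (x := o) (z := u • o)
      (fun e => huH (StrongEmbed.smul_mk_one_iff.1 e.symm)) hr hfix.1 hfix.2 hu rfl
  have hinv : ∀ {v : G}, orderOf v = 2 → v ∈ normalizer ((zpowers r : Subgroup G) : Set G) →
      v * r * v⁻¹ = r⁻¹ := by
    intro v hv hvN
    obtain ⟨k, hk⟩ := mem_zpowers_iff.1 ((mem_normalizer_iff.1 hvN r).1 (mem_zpowers r))
    have h1 : r ^ (k * k) = r := by
      rw [zpow_mul, hk, conj_zpow, hk,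
        show v * (v * r * v⁻¹) * v⁻¹ = (v * v) * r * (v * v)⁻¹ by group, (sq_of_ord hv).1, one_mul, inv_one,
        mul_one]
    have h2 : (7 : ℤ) ∣ k * k - 1 := by
      have := orderOf_dvd_sub_iff_zpow_eq_zpow.2 (show r ^ (k * k) = r ^ (1 : ℤ) by rw [h1, zpow_one])
      rwa [hr] at this
    rw [show k * k - 1 = (k - 1) * (k + 1) by ring] at h2
    rcases (Int.prime_iff_natAbs_prime.2 (by norm_num : Nat.Prime 7) : Prime (7 : ℤ)).dvd_mul.1 h2 with h | h
    · exfalso
      have e : r ^ k = r ^ (1 : ℤ) := orderOf_dvd_sub_iff_zpow_eq_zpow.1 (by rw [hr]; exact h)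
      rw [zpow_one, hk, mul_inv_eq_iff_eq_mul] at e
      exact f.not_commute_seven hr (sq_of_ord hv).1 (sq_of_ord hv).2 e.symm
    · have e : r ^ k = r ^ (-1 : ℤ) := orderOf_dvd_sub_iff_zpow_eq_zpow.1 (by
        rw [hr, sub_neg_eq_add]; exact h)
      rwa [zpow_neg_one, hk] at e
  refine ⟨?_, ?_⟩
  · set N := normalizer ((zpowers r : Subgroup G) : Set G)
    let φ : ↥N →* MulAut ↥(zpowers r) := (zpowers r).normalizerMonoidHom
    haveI : IsCyclic ↥(zpowers r) := inferInstance
    have haut : Nat.card (MulAut ↥(zpowers r)) = 6 := by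
      rw [IsCyclic.card_mulAut, Nat.card_zpowers, hr, Nat.totient_prime (by norm_num)]
    haveI : Finite (MulAut ↥(zpowers r)) := Nat.finite_of_card_ne_zero (by omega)
    have hcl : centralizer ((zpowers r : Subgroup G) : Set G) = centralizer ({r} : Set G) := by
      rw [zpowers_eq_closure, centralizer_closure]
    have hker : φ.ker = (centralizer ({r} : Set G)).subgroupOf N := by
      rw [normalizerMonoidHom_ker, hcl]
    have hord : ∀ (q : ℕ) (hq : q.Prime) (x : ↥N), (x : G) ^ q = 1 → (x : G) * r ≠ r * x →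
        q ∣ Nat.card ↥φ.range := by
      intro q hq x hx hne
      haveI : Fact q.Prime := ⟨hq⟩
      have hφ : orderOf (φ x) = q := by
        refine orderOf_eq_prime (by rw [← map_pow, show x ^ q = 1 from Subtype.ext hx, map_one]) fun h => hne ?_
        have h' : x ∈ φ.ker := h
        rw [hker, mem_subgroupOf, mem_centralizer_singleton_iff] at h'
        exact h'
      rw [← hφ]
      exact Subgroup.orderOf_dvd_natCard _ ⟨x, rfl⟩
    have h2 : 2 ∣ Nat.card ↥φ.range :=
      hord 2 Nat.prime_two ⟨u, huN⟩ (by rw [sq, (sq_of_ord hu).1])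
        (f.not_commute_seven hr (sq_of_ord hu).1 (sq_of_ord hu).2).symm
    have h3 : 3 ∣ Nat.card ↥φ.range := by
      obtain ⟨⟨c, hc⟩, hc3⟩ := exists_prime_orderOf_dvd_card' 3
        (show 3 ∣ Nat.card ↥(N ⊓ (nP P)) by rw [(f.card_norm_seven hr hrD.1).1]; norm_num)
      rw [Subgroup.orderOf_mk] at hc3
      exact hord 3 Nat.prime_three ⟨c, hc.1⟩ (by rw [← hc3, pow_orderOf_eq_one])
        (f.three_not_commute hr hrD.1 hc3 hc.2)
    have h6 : Nat.card ↥φ.range = 6 := by
      have hd : Nat.card ↥φ.range ∣ 6 := haut ▸ card_subgroup_dvd_card _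
      have := Nat.le_of_dvd (by norm_num) hd
      have := Nat.le_of_dvd Nat.card_pos (Nat.Coprime.mul_dvd_of_dvd_of_dvd (by norm_num : Nat.Coprime 2 3) h2 h3)
      omega
    rw [← φ.ker.index_mul_card, index_ker, h6, hker]
    congr 1
    exact Nat.card_congr (subgroupOfEquivOfLe (hcl ▸ centralizer_le_normalizer _)).toEquiv
  · refine Nat.card_le_card_of_injective (fun v => (⟨v.1 * u, ?_⟩ : ↥(centralizer ({r} : Set G)))) ?_
    · rw [mem_centralizer_singleton_iff]
      have h1 : v.1 * r = r⁻¹ * v.1 := mul_inv_eq_iff_eq_mul.1 (hinv v.2.1 v.2.2)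
      have h2 : u * r = r⁻¹ * u := mul_inv_eq_iff_eq_mul.1 (hinv hu huN)
      have h3 : v.1 * r⁻¹ = r * v.1 := by
        calc v.1 * r⁻¹ = r * (r⁻¹ * v.1) * r⁻¹ := by group
          _ = r * v.1 := by rw [← h1]; group
      rw [mul_assoc, h2, ← mul_assoc, h3, mul_assoc]
    · intro a b h
      exact Subtype.ext (mul_right_cancel (congrArg Subtype.val h))

/-- A group of order seven in a two point stabiliser fixes only these two points. -/
theorem two_fixed (f : Four J T P) (hns : ¬ Group.IsSolvable G) {u r : G} (hu : orderOf u = 2)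
    (huH : u ∉ (nP P)) (hr : orderOf r = 7)
    (hrD : r ∈ (nP P) ⊓ (nP P).map (MulAut.conj u).toMonoidHom) :
    (∀ x : G ⧸ (nP P), r • x = x → x = QuotientGroup.mk 1 ∨ x = u • (QuotientGroup.mk 1 : G ⧸ (nP P))) ∧
      Nat.card ↥(centralizer ({r} : Set G)) = 7 ∧
      Nat.card ↥(normalizer ((zpowers r : Subgroup G) : Set G)) = 42 := by
  classical
  obtain ⟨hNW, hIW⟩ := f.norm_seven hns hu huH hr hrD
  set o : G ⧸ (nP P) := QuotientGroup.mk 1
  set N := normalizer ((zpowers r : Subgroup G) : Set G)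
  let F : Set (G ⧸ (nP P)) := {x | r • x = x}
  obtain ⟨hro, hry⟩ := (f.mem_stab_iff hu).1 hrD
  have hoy : o ≠ u • o := fun e => huH (StrongEmbed.smul_mk_one_iff.1 e.symm)
  have hrN : r ∈ N := le_normalizer (mem_zpowers r)
  -- the fixed points form one orbit of the normaliser
  have horb : orbit ↥N o = F := by
    ext x
    constructor
    · rintro ⟨n, rfl⟩
      obtain ⟨k, hk⟩ := mem_zpowers_iff.1
        ((mem_normalizer_iff.1 (inv_mem n.2) r).1 (mem_zpowers r))
      show r • ((n : G) • o) = (n : G) • o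
      have h1 : r * n = n * r ^ k := by rw [hk]; group
      rw [smul_smul, h1, mul_smul]
      congr 1
      exact (zpow_mem (mem_stabilizer_iff.2 hro) k : r ^ k ∈ stabilizer G o)
    · intro hx
      by_cases hxo : x = o
      · rw [hxo]; exact mem_orbit_self o
      · obtain ⟨i, hi, hio⟩ := StrongEmbed.exists_swap (f.strongly hns) (Ne.symm hxo)
        exact ⟨⟨i, f.pair_norm hns (Ne.symm hxo) hr hro hx hi hio⟩, hio⟩
  have hstab : Nat.card ↥(stabilizer ↥N o) = 21 := by
    have e : stabilizer ↥N o = (N ⊓ (nP P)).subgroupOf N := by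
      ext n
      rw [mem_stabilizer_iff, mem_subgroupOf, mem_inf, and_iff_right n.2]
      exact StrongEmbed.smul_mk_one_iff
    rw [e, Nat.card_congr (subgroupOfEquivOfLe inf_le_left).toEquiv, (f.card_norm_seven hr hrD.1).1]
  have hNF : 21 * Nat.card ↥F = Nat.card ↥N := by
    have h := (stabilizer ↥N o).card_mul_index
    rwa [index_stabilizer, horb, hstab, ← Nat.card_coe_set_eq] at h
  -- involutions of the normaliser
  let F' := {x : G ⧸ (nP P) // x ∈ F ∧ x ≠ o}
  haveI : Finite F' := Subtype.finite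
  haveI := Fintype.ofFinite F'
  let E : (Σ x : F', {i : G // orderOf i = 2 ∧ i • o = x.1}) →
      {v : G // orderOf v = 2 ∧ v ∈ N} := fun p =>
    ⟨p.2.1, p.2.2.1, f.pair_norm hns (Ne.symm p.1.2.2) hr hro p.1.2.1 p.2.2.1 p.2.2.2⟩
  have hE : Function.Injective E := by
    rintro ⟨⟨x, hx⟩, ⟨i, hi⟩⟩ ⟨⟨y, hy⟩, ⟨j, hj⟩⟩ h
    obtain rfl : i = j := congrArg Subtype.val h
    obtain rfl : x = y := hi.2.symm.trans hj.2
    rfl
  have h7 : ∀ x : F', Nat.card {i : G // orderOf i = 2 ∧ i • o = x.1} = 7 := fun x => by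
    rw [StrongEmbed.card_swap (f.strongly hns) (Ne.symm x.2.2), f.card_invol_H]
  have hcount : 7 * Nat.card F' ≤ Nat.card ↥(centralizer ({r} : Set G)) := by
    refine le_trans ?_ hIW
    refine le_trans ?_ (Nat.card_le_card_of_injective E hE)
    rw [Nat.card_sigma, Finset.sum_congr rfl (fun x _ => h7 x), Finset.sum_const, Finset.card_univ,
      Nat.card_eq_fintype_card (α := F'), smul_eq_mul, mul_comm]
  have hF' : Nat.card ↥F = Nat.card F' + 1 := by
    have e : {x : G ⧸ (nP P) // x ∈ F ∧ x ≠ o} ≃ {x : ↥F // x ≠ ⟨o, hro⟩} :=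
      ⟨fun v => ⟨⟨v.1, v.2.1⟩, fun h => v.2.2 (congrArg Subtype.val h)⟩,
        fun v => ⟨v.1.1, v.1.2, fun h => v.2 (Subtype.ext h)⟩, fun _ => rfl, fun _ => rfl⟩
    haveI := Fintype.ofFinite ↥F
    have hpos : 0 < Fintype.card ↥F := Fintype.card_pos_iff.2 ⟨⟨o, hro⟩⟩
    have h1 : Nat.card F' = Nat.card {x : ↥F // x ≠ ⟨o, hro⟩} := Nat.card_congr e
    rw [Nat.card_eq_fintype_card (α := {x : ↥F // x ≠ _}), Fintype.card_subtype_compl,
      Fintype.card_subtype_eq] at h1
    rw [Nat.card_eq_fintype_card (α := ↥F), h1]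
    omega
  have h2 : 2 ≤ Nat.card ↥F := by
    have : Nat.card F' ≠ 0 :=
      Nat.card_ne_zero.2 ⟨⟨⟨u • o, hry, hoy.symm⟩⟩, inferInstance⟩
    omega
  have hF2 : Nat.card ↥F = 2 := by omega
  refine ⟨fun x hx => ?_, by omega, by omega⟩
  by_contra hne
  push Not at hne
  haveI := Fintype.ofFinite ↥F
  rw [Nat.card_eq_fintype_card] at hF2
  have h3 : 2 < Fintype.card ↥F :=
    Fintype.two_lt_card_iff.2 ⟨⟨o, hro⟩, ⟨u • o, hry⟩, ⟨x, hx⟩, fun h => hoy (congrArg Subtype.val h),
      fun h => hne.1 (congrArg Subtype.val h).symm, fun h => hne.2 (congrArg Subtype.val h).symm⟩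
  omega

theorem index_eq_nine (f : Four J T P) (hns : ¬ Group.IsSolvable G) :
    Nat.card (G ⧸ (nP P)) = 9 := by
  classical
  haveI : Fact (Nat.Prime 7) := ⟨by norm_num⟩
  obtain ⟨u, hu, huH⟩ := f.exists_out hns
  set o : G ⧸ (nP P) := QuotientGroup.mk 1
  haveI : Finite {x : G ⧸ (nP P) // x ≠ o} := Subtype.finite
  haveI := Fintype.ofFinite (G ⧸ (nP P))
  have hcard : Nat.card (G ⧸ (nP P)) = Nat.card {x : G ⧸ (nP P) // x ≠ o} + 1 := by
    have hpos : 0 < Fintype.card (G ⧸ (nP P)) := Fintype.card_pos_iff.2 ⟨o⟩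
    rw [Nat.card_eq_fintype_card, Nat.card_eq_fintype_card, Fintype.card_subtype_compl, Fintype.card_subtype_eq]
    omega
  -- `P` is semiregular away from `o`
  have hlow : 8 ≤ Nat.card {x : G ⧸ (nP P) // x ≠ o} := by
    have hy : u • o ≠ o := fun e => huH (StrongEmbed.smul_mk_one_iff.1 e)
    have hPo : ∀ p ∈ (P : Subgroup G), p • o = o := fun p hp => StrongEmbed.smul_mk_one_iff.2 (le_normalizer hp)
    rw [← f.card_sylow]
    refine Nat.card_le_card_of_injective
      (fun p => ⟨(p : G) • (u • o), fun e => hy (MulAction.injective (p : G) (e.trans (hPo p p.2).symm))⟩) ?_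
    intro p q h
    by_contra hne
    have h' : (p : G) • (u • o) = (q : G) • (u • o) := congrArg Subtype.val h
    have hm : (q : G)⁻¹ * p ∈ (P : Subgroup G) := mul_mem (inv_mem q.2) p.2
    have hm2 := ord_two (f.data.sylow_sq f.le hm) fun e => hne (Subtype.ext (inv_mul_eq_one.1 e).symm)
    exact hy (StrongEmbed.fix_unique (f.strongly hns) hm2 (by rw [mul_smul, h', inv_smul_smul]) (hPo _ hm))
  -- distinct points give distinct subgroups of order seven
  have hsel : ∀ x : {x : G ⧸ (nP P) // x ≠ o}, ∃ r : G, orderOf r = 7 ∧ r ∈ (nP P) ∧ r • x.1 = x.1 ∧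
      ∀ z, r • z = z → z = o ∨ z = x.1 := by
    intro x
    obtain ⟨i, hi, hio⟩ := StrongEmbed.exists_swap (f.strongly hns) (Ne.symm x.2)
    have hiH : i ∉ (nP P) := fun h => x.2 (hio.symm.trans (StrongEmbed.smul_mk_one_iff.2 h))
    obtain ⟨⟨r, hr⟩, hr7⟩ := exists_prime_orderOf_dvd_card' 7
      (show 7 ∣ Nat.card ↥((nP P) ⊓ (nP P).map (MulAut.conj i).toMonoidHom) by
        rcases f.card_pair hns hi hiH with h | h <;> rw [h] <;> norm_num)
    rw [Subgroup.orderOf_mk] at hr7
    exact ⟨r, hr7, hr.1, hio ▸ ((f.mem_stab_iff hi).1 hr).2,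
      fun z hz => hio ▸ (f.two_fixed hns hi hiH hr7 hr).1 z hz⟩
  choose r hr7 hrH hrx hrz using hsel
  have hup : Nat.card {x : G ⧸ (nP P) // x ≠ o} ≤ 8 := by
    obtain ⟨⟨r₀, hr₀⟩, hr₀7⟩ := exists_prime_orderOf_dvd_card' 7
      (show 7 ∣ Nat.card ↥((nP P)) by rw [f.card_norm]; norm_num)
    rw [Subgroup.orderOf_mk] at hr₀7
    rw [← (f.card_norm_seven hr₀7 hr₀).2]
    let S : {x : G ⧸ (nP P) // x ≠ o} → Sylow 7 ↥((nP P)) := fun x =>
      Sylow.ofCard ((zpowers (r x)).subgroupOf (nP P)) (by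
        rw [Nat.card_congr (subgroupOfEquivOfLe (zpowers_le.2 (hrH x))).toEquiv, Nat.card_zpowers, hr7,
          f.card_norm, show 168 = 7 ^ 1 * 24 by norm_num, Nat.factorization_mul (by norm_num) (by norm_num),
          Finsupp.add_apply, Nat.Prime.factorization_pow (by norm_num), Finsupp.single_eq_same,
          Nat.factorization_eq_zero_of_not_dvd (by norm_num), add_zero, pow_one])
    refine Nat.card_le_card_of_injective S fun x y h => ?_
    have h' : (zpowers (r x)).subgroupOf (nP P) = (zpowers (r y)).subgroupOf (nP P) :=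
      congrArg (fun Q : Sylow 7 ↥((nP P)) => (Q : Subgroup ↥((nP P)))) h
    have hm : r x ∈ zpowers (r y) := by
      have : (⟨r x, hrH x⟩ : ↥((nP P))) ∈ (zpowers (r x)).subgroupOf (nP P) := mem_zpowers (r x)
      rw [h'] at this
      exact this
    have : r x • y.1 = y.1 :=
      (zpowers_le.2 (mem_stabilizer_iff.2 (hrx y)) : zpowers (r y) ≤ stabilizer G y.1) hm
    rcases hrz x y.1 this with e | e
    · exact absurd e y.2
    · exact Subtype.ext e.symm
  omega

theorem card_group (f : Four J T P) (hns : ¬ Group.IsSolvable G) : Nat.card G = 1512 := by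
  rw [card_eq_card_quotient_mul_card_subgroup (nP P), f.index_eq_nine hns, f.card_norm]

end Four

end CfsgLib.TwoAlt
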