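import Cfsg.Agent.TwoAlt.Small
import Cfsg.Agent.SmallSimple.Basic
import Cfsg.Agent.Invol.StrongEmbedded
import Cfsg.Agent.Char.Burnside

/-!
Centraliser `⟨J⟩ × A₄`: the normaliser of a Sylow 2-subgroup is strongly embedded of order 168.
-/

set_option autoImplicit false
set_option linter.unusedSectionVars false

namespace CfsgLib.TwoAlt

open Subgroup

theorem alt_four_sq_comm : ∀ s t : ↥(alternatingGroup (Fin 4)), s * s = 1 → t * t = 1 → s * t = t * s := by
  decide +kernel

theorem alt_four_self_cent : ∀ b : ↥(alternatingGroup (Fin 4)), (∀ s, s * s = 1 → s * b = b * s) → b * b = 1 := by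
  decide +kernel

theorem conj_sq {G : Type*} [Group G] (g : G) {x : G} (h : x * x = 1) :
    g * x * g⁻¹ * (g * x * g⁻¹) = 1 := by
  rw [show g * x * g⁻¹ * (g * x * g⁻¹) = g * (x * x) * g⁻¹ by group, h, mul_one, mul_inv_cancel]

variable {G : Type*} [Group G] [Finite G] {J : G} {T : Subgroup G} {P : Sylow 2 G}

/-- A fixed Sylow 2-subgroup containing `J`, for `m = 4`. -/
structure Four (J : G) (T : Subgroup G) (P : Sylow 2 G) : Prop where
  data : Data J T 4
  mem : J ∈ (P : Subgroup G)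
  le : (P : Subgroup G) ≤ centralizer ({J} : Set G)

theorem Data.exists_four (d : Data J T 4) : ∃ P : Sylow 2 G, Four J T P := by
  obtain ⟨P, h1, h2⟩ := d.exists_sylow
  exact ⟨P, d, h1, h2⟩

namespace Four

theorem card_sylow (f : Four J T P) : Nat.card ↥(P : Subgroup G) = 8 := f.data.card_sylow f.le

theorem card_cent (f : Four J T P) : Nat.card ↥(centralizer ({J} : Set G)) = 24 := by
  rcases f.data.card_T with ⟨-, h⟩ | ⟨h, -⟩
  · rw [f.data.card_cent, h]
  · omega

theorem sq_comm (f : Four J T P) {x y : G} (hx : x ∈ centralizer ({J} : Set G))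
    (hy : y ∈ centralizer ({J} : Set G)) (hx2 : x * x = 1) (hy2 : y * y = 1) : x * y = y * x := by
  obtain ⟨e⟩ := f.data.iso
  obtain ⟨⟨a, b⟩, hab⟩ := f.data.split.surjective ⟨x, hx⟩
  obtain ⟨⟨a', b'⟩, hab'⟩ := f.data.split.surjective ⟨y, hy⟩
  have hb : (a, b) * (a, b) = 1 := f.data.split.injective (by
    rw [map_mul, hab, map_one]; exact Subtype.ext hx2)
  have hb' : (a', b') * (a', b') = 1 := f.data.split.injective (by
    rw [map_mul, hab', map_one]; exact Subtype.ext hy2)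
  have h := alt_four_sq_comm (e b) (e b') (by rw [← map_mul, show b * b = 1 from congrArg Prod.snd hb, map_one])
    (by rw [← map_mul, show b' * b' = 1 from congrArg Prod.snd hb', map_one])
  rw [← map_mul, ← map_mul] at h
  have h' : (a, b) * (a', b') = (a', b') * (a, b) := Prod.ext (by
    obtain ⟨i, hi⟩ := mem_zpowers_iff.1 a.2
    obtain ⟨j, hj⟩ := mem_zpowers_iff.1 a'.2
    refine Subtype.ext ?_
    show (a : G) * a' = a' * a
    rw [← hi, ← hj]
    exact ((Commute.refl J).zpow_zpow i j).eq) (e.injective h)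
  have h'' := congrArg f.data.split h'
  rw [map_mul, map_mul, hab, hab'] at h''
  exact congrArg Subtype.val h''

/-- The elements of square one of the centraliser form the Sylow subgroup. -/
theorem mem_of_sq (f : Four J T P) {x : G} (hx : x ∈ centralizer ({J} : Set G)) (hx2 : x * x = 1) :
    x ∈ (P : Subgroup G) := by
  let Q : Subgroup G :=
    { carrier := {y | y ∈ centralizer ({J} : Set G) ∧ y * y = 1}
      mul_mem' := fun {a b} ha hb => ⟨mul_mem ha.1 hb.1, by
        calc a * b * (a * b) = a * (b * a) * b := by group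
          _ = a * (a * b) * b := by rw [f.sq_comm hb.1 ha.1 hb.2 ha.2]
          _ = a * a * (b * b) := by group
          _ = 1 := by rw [ha.2, hb.2, one_mul]⟩
      one_mem' := ⟨one_mem _, one_mul 1⟩
      inv_mem' := fun {a} ha => ⟨inv_mem ha.1, by rw [← mul_inv_rev, ha.2, inv_one]⟩ }
  have hle : (P : Subgroup G) ≤ Q := fun y hy => ⟨f.le hy, f.data.sylow_sq f.le hy⟩
  have hQ : IsPGroup 2 ↥Q := fun y => ⟨1, Subtype.ext (by
    show (y : G) ^ (2 ^ 1) = 1
    rw [pow_one, sq, y.2.2])⟩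
  rw [← P.3 hQ hle]
  exact ⟨hx, hx2⟩

theorem normalises (f : Four J T P) {x : G} (hx : x ∈ centralizer ({J} : Set G)) {p : G}
    (hp : p ∈ (P : Subgroup G)) : x * p * x⁻¹ ∈ (P : Subgroup G) :=
  f.mem_of_sq (mul_mem (mul_mem hx (f.le hp)) (inv_mem hx)) (conj_sq x (f.data.sylow_sq f.le hp))

theorem sylow_sq_all (f : Four J T P) (S : Sylow 2 G) {y : G} (hy : y ∈ (S : Subgroup G)) : y * y = 1 := by
  haveI : Fact (Nat.Prime 2) := ⟨Nat.prime_two⟩
  have hinj := (Sylow.equiv S P).injective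
  have h : (⟨y, hy⟩ : ↥(S : Subgroup G)) * ⟨y, hy⟩ = 1 := hinj (by
    rw [map_mul, map_one]
    exact Subtype.ext (f.data.sylow_sq f.le (Sylow.equiv S P ⟨y, hy⟩).2))
  exact congrArg Subtype.val h

/-- An involution lies in only one Sylow 2-subgroup. -/
theorem uniq (f : Four J T P) (S : Sylow 2 G) {g v : G} (hv : v ∈ (S : Subgroup G))
    (hg : g * J * g⁻¹ = v) (y : G) : y ∈ (S : Subgroup G) ↔ g⁻¹ * y * g ∈ (P : Subgroup G) := by
  have hfwd : ∀ {z}, z ∈ (S : Subgroup G) → g⁻¹ * z * g ∈ (P : Subgroup G) := by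
    intro z hz
    have hc : z * v = v * z :=
      congrArg Subtype.val ((f.data.comm_all S).is_comm.comm ⟨z, hz⟩ ⟨v, hv⟩)
    refine f.mem_of_sq ?_ ?_
    · rw [mem_centralizer_singleton_iff]
      calc g⁻¹ * z * g * J = g⁻¹ * (z * (g * J * g⁻¹)) * g := by group
        _ = J * (g⁻¹ * z * g) := by rw [hg, hc, ← hg]; group
    · simpa using conj_sq g⁻¹ (f.sylow_sq_all S hz)
  refine ⟨hfwd, fun hy => ?_⟩
  let F : ↥(S : Subgroup G) → ↥(P : Subgroup G) := fun z => ⟨g⁻¹ * z * g, hfwd z.2⟩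
  have hF : Function.Injective F := fun a b h =>
    Subtype.ext (mul_left_cancel (mul_right_cancel (congrArg Subtype.val h : g⁻¹ * (a : G) * g = g⁻¹ * b * g)))
  obtain ⟨z, hz⟩ := (hF.bijective_of_nat_card_le (by rw [f.card_sylow, f.data.card_eight S])).2 ⟨_, hy⟩
  have : (z : G) = y := by simpa [F] using congrArg Subtype.val hz
  exact this ▸ z.2

theorem norm_of_commute (f : Four J T P) (S : Sylow 2 G) {v x y : G} (hv : v ∈ (S : Subgroup G))
    (hv1 : v ≠ 1) (hx : x * v = v * x) (hy : y ∈ (S : Subgroup G)) : x * y * x⁻¹ ∈ (S : Subgroup G) := by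
  obtain ⟨g, hg⟩ := isConj_iff.1 (f.data.isConj (f.sylow_sq_all S hv) hv1)
  rw [f.uniq S hv hg]
  have h1 : g⁻¹ * x * g ∈ centralizer ({J} : Set G) := by
    rw [mem_centralizer_singleton_iff]
    calc g⁻¹ * x * g * J = g⁻¹ * (x * (g * J * g⁻¹)) * g := by group
      _ = J * (g⁻¹ * x * g) := by rw [hg, hx, ← hg]; group
  have h2 := f.normalises h1 ((f.uniq S hv hg y).1 hy)
  simpa [mul_assoc] using h2

/-- `N(P)` controls fusion in `P`. -/
theorem mem_norm (f : Four J T P) {g v : G} (hv : v ∈ (P : Subgroup G)) (hv1 : v ≠ 1)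
    (hg : g * v * g⁻¹ ∈ (P : Subgroup G)) : g ∈ normalizer ((P : Subgroup G) : Set G) := by
  obtain ⟨c, hc⟩ := isConj_iff.1 (f.data.isConj (f.data.sylow_sq f.le hv) hv1)
  rw [mem_normalizer_iff]
  intro y
  have h1 := f.uniq P hv hc y
  have h2 := f.uniq P hg (g := g * c) (by rw [← hc]; group) (g * y * g⁻¹)
  rw [show (g * c)⁻¹ * (g * y * g⁻¹) * (g * c) = c⁻¹ * y * c by group] at h2
  exact h1.trans h2.symm

theorem cent_le_norm (f : Four J T P) {v x : G} (hv : v ∈ (P : Subgroup G)) (hv1 : v ≠ 1)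
    (hx : x * v = v * x) : x ∈ normalizer ((P : Subgroup G) : Set G) :=
  f.mem_norm hv hv1 (by rw [hx, mul_inv_cancel_right]; exact hv)

theorem ne_one (f : Four J T P) : J ≠ 1 := f.data.ne_one

/-- The involutions of `P`. -/
theorem card_invols (f : Four J T P) :
    Nat.card {v : G // v ∈ (P : Subgroup G) ∧ v ≠ 1} = 7 := by
  classical
  haveI := Fintype.ofFinite ↥(P : Subgroup G)
  have e : {v : G // v ∈ (P : Subgroup G) ∧ v ≠ 1} ≃ {v : ↥(P : Subgroup G) // v ≠ 1} :=
    ⟨fun v => ⟨⟨v.1, v.2.1⟩, fun h => v.2.2 (congrArg Subtype.val h)⟩,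
      fun v => ⟨v.1.1, v.1.2, fun h => v.2 (Subtype.ext h)⟩, fun _ => rfl, fun _ => rfl⟩
  rw [Nat.card_congr e, Nat.card_eq_fintype_card, Fintype.card_subtype_compl, Fintype.card_subtype_eq,
    ← Nat.card_eq_fintype_card, f.card_sylow]

/-- A subgroup of `N(P)` transitive on the involutions of `P`. -/
theorem card_transitive (f : Four J T P) (K : Subgroup G) (hK : K ≤ normalizer ((P : Subgroup G) : Set G))
    (htr : ∀ v ∈ (P : Subgroup G), v ≠ 1 → ∃ k ∈ K, k * J * k⁻¹ = v) :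
    Nat.card ↥K = 7 * Nat.card ↥(centralizer ({J} : Set G) ⊓ K : Subgroup G) := by
  set C := centralizer ({J} : Set G) with hC
  have hval : ∀ k : ↥K, (k : G) * J * (k : G)⁻¹ ∈ (P : Subgroup G) ∧ (k : G) * J * (k : G)⁻¹ ≠ 1 :=
    fun k => ⟨(mem_normalizer_iff.1 (hK k.2) J).1 f.mem, fun h => f.ne_one (conj_eq_one_iff.1 h)⟩
  have key : ∀ a b : ↥K, ((a : G) * J * (a : G)⁻¹ = b * J * (b : G)⁻¹) ↔ a⁻¹ * b ∈ C.subgroupOf K := by
    intro a b
    rw [mem_subgroupOf, hC, mem_centralizer_singleton_iff, coe_mul, coe_inv]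
    constructor
    · intro h
      calc (a : G)⁻¹ * b * J = (a : G)⁻¹ * (b * J * (b : G)⁻¹) * b := by group
        _ = J * ((a : G)⁻¹ * b) := by rw [← h]; group
    · intro h
      calc (a : G) * J * (a : G)⁻¹ = a * (J * ((a : G)⁻¹ * b)) * (b : G)⁻¹ := by group
        _ = b * J * (b : G)⁻¹ := by rw [← h]; group
  let F : ↥K ⧸ C.subgroupOf K → {v : G // v ∈ (P : Subgroup G) ∧ v ≠ 1} :=
    Quotient.lift (fun k => ⟨_, hval k⟩) fun a b h =>
      Subtype.ext ((key a b).2 (QuotientGroup.leftRel_apply.1 h))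
  have hF : Function.Bijective F := by
    refine ⟨?_, fun ⟨v, hv, hv1⟩ => ?_⟩
    · rintro ⟨a⟩ ⟨b⟩ h
      exact Quotient.sound (QuotientGroup.leftRel_apply.2 ((key a b).1 (congrArg Subtype.val h)))
    · obtain ⟨k, hk, hkv⟩ := htr v hv hv1
      exact ⟨QuotientGroup.mk ⟨k, hk⟩, Subtype.ext hkv⟩
  have h1 := (C.subgroupOf K).index_mul_card
  rw [Subgroup.index_eq_card, Nat.card_congr (Equiv.ofBijective F hF), f.card_invols,
    show Nat.card ↥(C.subgroupOf K) = Nat.card ↥(C ⊓ K : Subgroup G) by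
      rw [← inf_subgroupOf_right]
      exact Nat.card_congr (subgroupOfEquivOfLe inf_le_right).toEquiv] at h1
  exact h1.symm

theorem norm_transitive (f : Four J T P) :
    ∀ v ∈ (P : Subgroup G), v ≠ 1 → ∃ k ∈ normalizer ((P : Subgroup G) : Set G), k * J * k⁻¹ = v := by
  intro v hv hv1
  obtain ⟨g, hg⟩ := isConj_iff.1 (f.data.isConj (f.data.sylow_sq f.le hv) hv1)
  exact ⟨g, f.mem_norm f.mem f.ne_one (hg ▸ hv), hg⟩

theorem card_norm (f : Four J T P) : Nat.card ↥(normalizer ((P : Subgroup G) : Set G)) = 168 := by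
  rw [f.card_transitive _ le_rfl f.norm_transitive,
    inf_eq_left.2 fun x hx => f.cent_le_norm f.mem f.ne_one (mem_centralizer_singleton_iff.1 hx), f.card_cent]

theorem card_cent_conj (f : Four J T P) {v : G} (hv : v * v = 1) (hv1 : v ≠ 1) :
    Nat.card ↥(centralizer ({v} : Set G)) = 24 := by
  obtain ⟨g, hg⟩ := isConj_iff.1 (f.data.isConj hv hv1)
  rw [← f.card_cent]
  refine (Nat.card_congr ((MulAut.conj g).toEquiv.subtypeEquiv fun x => ?_)).symm
  simp only [mem_centralizer_singleton_iff]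
  show x * J = J * x ↔ g * x * g⁻¹ * v = v * (g * x * g⁻¹)
  rw [← hg]
  constructor
  · intro h
    calc g * x * g⁻¹ * (g * J * g⁻¹) = g * (x * J) * g⁻¹ := by group
      _ = g * J * g⁻¹ * (g * x * g⁻¹) := by rw [h]; group
  · intro h
    calc x * J = g⁻¹ * (g * x * g⁻¹ * (g * J * g⁻¹)) * g := by group
      _ = J * x := by rw [h]; group

/-- `P` is self-centralising. -/
theorem self_cent (f : Four J T P) {x : G} (hx : ∀ p ∈ (P : Subgroup G), p * x = x * p) :
    x ∈ (P : Subgroup G) := by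
  have hxC : x ∈ centralizer ({J} : Set G) := mem_centralizer_singleton_iff.2 (hx J f.mem).symm
  refine f.mem_of_sq hxC ?_
  obtain ⟨e⟩ := f.data.iso
  obtain ⟨⟨a, b⟩, hab⟩ := f.data.split.surjective ⟨x, hxC⟩
  have hb : e b * e b = 1 := by
    refine alt_four_self_cent _ fun s hs => ?_
    set t := e.symm s
    have ht : t * t = 1 := by rw [← map_mul, hs, map_one]
    have htP : (t : G) ∈ (P : Subgroup G) := f.mem_of_sq (f.data.le_cent t.2) (congrArg Subtype.val ht)
    have h := hx _ htP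
    have hx' : x = (a : G) * b := (congrArg Subtype.val hab).symm
    have hc := f.data.prod.2.2.1 a a.2 t t.2
    have htb : (t : G) * b = b * t := by
      refine mul_left_cancel (a := (a : G)) ?_
      calc (a : G) * (t * b) = (a * t) * b := by group
        _ = t * x := by rw [hc, hx', mul_assoc]
        _ = a * (b * t) := by rw [h, hx', mul_assoc]
    have := congrArg e (Subtype.ext htb : t * b = b * t)
    rwa [map_mul, map_mul, MulEquiv.apply_symm_apply] at this
  have hb' : b * b = 1 := e.injective (by rw [map_mul, hb, map_one])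
  have ha : a * a = 1 := by
    rw [← sq, ← show Nat.card ↥(zpowers J) = 2 by rw [Nat.card_zpowers, f.data.ord], pow_card_eq_one']
  have h := congrArg f.data.split (show (a, b) * (a, b) = 1 from Prod.ext ha hb')
  rw [map_mul, hab, map_one] at h
  exact congrArg Subtype.val h

theorem mem_of_norm_sq (f : Four J T P) {w : G} (hw : w ∈ normalizer ((P : Subgroup G) : Set G))
    (hw2 : w * w = 1) : w ∈ (P : Subgroup G) := by
  haveI : Fact (Nat.Prime 2) := ⟨Nat.prime_two⟩
  exact CfsgLib.SmallSimple.mem_sylow_of_smul_eq (n := 1) (by rw [pow_one, sq, hw2]) P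
    (Sylow.smul_eq_iff_mem_normalizer.2 hw)

theorem norm_ne_top (f : Four J T P) (hns : ¬ Group.IsSolvable G) :
    normalizer ((P : Subgroup G) : Set G) ≠ ⊤ := by
  intro h
  apply hns
  haveI hPn : (P : Subgroup G).Normal := normalizer_eq_top_iff.1 h
  have hG : Nat.card G = 168 := by rw [← f.card_norm, h, card_top]
  have hQ : Nat.card (G ⧸ (P : Subgroup G)) = 21 := by
    have := (P : Subgroup G).index_mul_card
    rw [f.card_sylow, hG, Subgroup.index_eq_card] at this
    omega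
  haveI h1 : Group.IsSolvable ↥(P : Subgroup G) :=
    CfsgLib.Char.isSolvable_of_card_eq 2 3 3 0 Nat.prime_two Nat.prime_three (by rw [f.card_sylow]; norm_num)
  haveI h2 : Group.IsSolvable (G ⧸ (P : Subgroup G)) :=
    CfsgLib.Char.isSolvable_of_card_eq 3 7 1 1 Nat.prime_three (by norm_num) (by rw [hQ]; norm_num)
  exact Group.isSolvable_of_ker_le_range (P : Subgroup G).subtype (QuotientGroup.mk' (P : Subgroup G))
    (by rw [QuotientGroup.ker_mk', range_subtype])

theorem strongly (f : Four J T P) (hns : ¬ Group.IsSolvable G) :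
    Cfsg.IsStronglyEmbedded (normalizer ((P : Subgroup G) : Set G)) := by
  refine ⟨f.norm_ne_top hns, ?_, fun g hg => ?_⟩
  · rw [f.card_norm]; decide
  · by_contra hev
    rw [Nat.not_odd_iff_even, even_iff_two_dvd] at hev
    haveI : Fact (Nat.Prime 2) := ⟨Nat.prime_two⟩
    obtain ⟨⟨w, hwm⟩, hw⟩ := exists_prime_orderOf_dvd_card' 2 hev
    rw [Subgroup.orderOf_mk] at hw
    obtain ⟨hwH, w', hw'H, hw'⟩ := hwm
    have hw2 : w * w = 1 := by rw [← sq, ← hw, pow_orderOf_eq_one]
    have hw1 : w ≠ 1 := fun e => by rw [e, orderOf_one] at hw; omega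
    have e : g * w' * g⁻¹ = w := hw'
    have hw'2 : w' * w' = 1 := by
      have := conj_sq g⁻¹ hw2
      rw [← e] at this
      simpa [mul_assoc] using this
    exact hg (f.mem_norm (f.mem_of_norm_sq hw'H hw'2) (fun h => hw1 (by rw [← e, h, mul_one, mul_inv_cancel]))
      (e.symm ▸ f.mem_of_norm_sq hwH hw2))

/-- An odd subgroup normalised by all involutions is trivial. -/
theorem eq_bot_of_odd (f : Four J T P) {N : Subgroup G} (hodd : Odd (Nat.card ↥N))
    (hinv : ∀ v : G, v * v = 1 → ∀ x ∈ N, v * x * v⁻¹ ∈ N) : N = ⊥ := by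
  haveI : Fact (Nat.Prime 2) := ⟨Nat.prime_two⟩
  have hno : ∀ z ∈ N, z * z = 1 → z = 1 := fun z hz hz2 => by
    by_contra hz1
    have h := Subgroup.orderOf_dvd_natCard N hz
    rw [orderOf_eq_prime (by rw [sq, hz2]) hz1] at h
    exact Nat.not_even_iff_odd.2 hodd (even_iff_two_dvd.2 h)
  have hcent : ∀ v : G, v * v = 1 → v ≠ 1 → ∀ x ∈ N, x * v = v * x → x = 1 := by
    intro v hv hv1 x hx hxv
    obtain ⟨g, hg⟩ := isConj_iff.1 (f.data.isConj hv hv1)
    have hxC : g⁻¹ * x * g ∈ centralizer ({J} : Set G) := by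
      rw [mem_centralizer_singleton_iff]
      calc g⁻¹ * x * g * J = g⁻¹ * (x * (g * J * g⁻¹)) * g := by group
        _ = J * (g⁻¹ * x * g) := by rw [hg, hxv, ← hg]; group
    have hmem : g⁻¹ * x * g ∈ (P : Subgroup G) := f.self_cent fun p hp => by
      have hp2 := f.data.sylow_sq f.le hp
      have hq2 := conj_sq g hp2
      have hqi : (g * p * g⁻¹)⁻¹ = g * p * g⁻¹ := inv_eq_of_mul_eq_one_right hq2
      -- the commutator of `x` and the conjugate of `p`
      have h1 : x * (g * p * g⁻¹) * x⁻¹ * (g * p * g⁻¹)⁻¹ ∈ N := by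
        rw [show x * (g * p * g⁻¹) * x⁻¹ * (g * p * g⁻¹)⁻¹ =
          x * ((g * p * g⁻¹) * x⁻¹ * (g * p * g⁻¹)⁻¹) by group]
        exact mul_mem hx (hinv _ hq2 _ (inv_mem hx))
      have h2 : g⁻¹ * (x * (g * p * g⁻¹) * x⁻¹ * (g * p * g⁻¹)⁻¹) * g ∈ (P : Subgroup G) := by
        rw [show g⁻¹ * (x * (g * p * g⁻¹) * x⁻¹ * (g * p * g⁻¹)⁻¹) * g =
          (g⁻¹ * x * g) * p * (g⁻¹ * x * g)⁻¹ * p⁻¹ by group]
        exact mul_mem (f.normalises hxC hp) (inv_mem hp)
      have h3 := hno _ h1 (by simpa [mul_assoc] using conj_sq g (f.data.sylow_sq f.le h2))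
      calc p * (g⁻¹ * x * g) = g⁻¹ * ((g * p * g⁻¹) * x) * g := by group
        _ = g⁻¹ * (x * (g * p * g⁻¹)) * g := by rw [mul_inv_eq_iff_eq_mul.1 (mul_inv_eq_one.1 h3)]
        _ = g⁻¹ * x * g * p := by group
    refine hno x hx ?_
    simpa [mul_assoc] using conj_sq g (f.data.sylow_sq f.le hmem)
  obtain ⟨w, hw, hwP, hwJ⟩ : ∃ w : G, w ≠ 1 ∧ w ∈ (P : Subgroup G) ∧ w ≠ J := by
    by_contra h
    push Not at h
    have : (P : Subgroup G) ≤ zpowers J := fun w hwP => by
      by_cases hw : w = 1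
      · rw [hw]; exact one_mem _
      · rw [h w hw hwP]; exact mem_zpowers J
    have h8 := card_le_of_le this
    rw [f.card_sylow, Nat.card_zpowers, f.data.ord] at h8
    omega
  have hJw : J * w * (J * w) = 1 := f.data.sylow_sq f.le (mul_mem f.mem hwP)
  have hJw1 : J * w ≠ 1 := fun h => hwJ (by
    rw [← inv_eq_of_mul_eq_one_right h]
    exact inv_eq_of_mul_eq_one_right f.data.mul_self)
  have inv : ∀ v : G, v * v = 1 → v ≠ 1 → ∀ x ∈ N, v * x * v⁻¹ = x⁻¹ := by
    intro v hv hv1 x hx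
    let φ : ↥N →* ↥N := MonoidHom.mk' (fun n => ⟨v * n * v⁻¹, hinv v hv n n.2⟩)
      fun a b => Subtype.ext (by
        show v * ((a : G) * b) * v⁻¹ = v * a * v⁻¹ * (v * b * v⁻¹)
        group)
    have hfp : MonoidHom.FixedPointFree φ := fun n hn =>
      Subtype.ext (hcent v hv hv1 n n.2 (mul_inv_eq_iff_eq_mul.1 (congrArg Subtype.val hn)).symm)
    have hinvol : Function.Involutive φ := fun n => Subtype.ext (by
      show v * (v * (n : G) * v⁻¹) * v⁻¹ = n
      rw [show v * (v * (n : G) * v⁻¹) * v⁻¹ = (v * v) * (n : G) * (v * v)⁻¹ by group, hv, one_mul,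
        inv_one, mul_one])
    exact congrArg Subtype.val (congrFun (hfp.coe_eq_inv_of_involutive hinvol) ⟨x, hx⟩)
  rw [eq_bot_iff]
  intro x hx
  rw [mem_bot]
  refine hno x hx ?_
  have h1 := inv _ hJw hJw1 x hx
  have h2 : J * w * x * (J * w)⁻¹ = x := by
    rw [show J * w * x * (J * w)⁻¹ = J * (w * x * w⁻¹) * J⁻¹ by group,
      inv w (f.data.sylow_sq f.le hwP) hw x hx, inv J f.data.mul_self f.ne_one _ (inv_mem hx), inv_inv]
  rw [h2] at h1
  nth_rewrite 2 [h1]
  exact mul_inv_cancel x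

end Four

end CfsgLib.TwoAlt
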