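import Mathlib
import Cfsg.Prelude.Def_SporadicB
import Cfsg.Prelude.Def_TwoFusion
import Cfsg.Agent.Invol.ThompsonTransfer
import Cfsg.Agent.TwoAlt.AltDerived

/-!
An involution centraliser `⟨J⟩ × A_m`: `m ≥ 6` forces a subgroup of index 2.
-/

set_option autoImplicit false
set_option linter.unusedSectionVars false

namespace CfsgLib.TwoAlt

open Subgroup

variable {G : Type*} [Group G] [Finite G]

/-- The hypotheses. -/
structure Data (J : G) (T : Subgroup G) (m : ℕ) : Prop where
  cen : Cfsg.IsTwoCentralInvolution J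
  prod : Cfsg.IsInternalDirectProduct (zpowers J) T (centralizer ({J} : Set G))
  iso : Nonempty (↥T ≃* ↥(alternatingGroup (Fin m)))
  noTwo : ∀ N : Subgroup G, N.Normal → N.index ≠ 2

variable {J : G} {T : Subgroup G} {m : ℕ}

theorem Data.ord (d : Data J T m) : orderOf J = 2 := d.cen.1

theorem Data.le_cent (d : Data J T m) : T ≤ centralizer ({J} : Set G) := d.prod.2.1

theorem Data.self_mem (_d : Data J T m) : J ∈ centralizer ({J} : Set G) :=
  mem_centralizer_singleton_iff.2 rfl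

/-- The decomposition of the centraliser. -/
noncomputable def Data.split (d : Data J T m) : ↥(zpowers J) × ↥T ≃* ↥(centralizer ({J} : Set G)) :=
  MulEquiv.ofBijective
    (MonoidHom.noncommCoprod (inclusion d.prod.1) (inclusion d.le_cent)
      fun a b => Subtype.ext (d.prod.2.2.1 _ a.2 _ b.2)) <| by
    refine ⟨(injective_iff_map_eq_one _).2 ?_, ?_⟩
    · rintro ⟨a, b⟩ h
      have h' : (a : G) * (b : G) = 1 := congrArg Subtype.val h
      have hb : (b : G) ∈ zpowers J ⊓ T :=
        ⟨(eq_inv_of_mul_eq_one_right h') ▸ (zpowers J).inv_mem a.2, b.2⟩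
      rw [d.prod.2.2.2.1, mem_bot] at hb
      rw [hb, mul_one] at h'
      exact Prod.ext (Subtype.ext h') (Subtype.ext hb)
    · intro x
      set f : ↥(zpowers J) × ↥T →* G :=
        MonoidHom.noncommCoprod (zpowers J).subtype T.subtype fun a b => d.prod.2.2.1 _ a.2 _ b.2
      have hle : zpowers J ⊔ T ≤ f.range := sup_le
        (fun a ha => ⟨(⟨a, ha⟩, 1), mul_one a⟩) (fun a ha => ⟨(1, ⟨a, ha⟩), one_mul a⟩)
      obtain ⟨ab, hab⟩ := hle (show (x : G) ∈ zpowers J ⊔ T by rw [d.prod.2.2.2.2]; exact x.2)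
      exact ⟨ab, Subtype.ext hab⟩

theorem Data.split_apply (d : Data J T m) (a : ↥(zpowers J)) (b : ↥T) :
    (d.split (a, b) : G) = a * b := rfl

theorem Data.card_cent (d : Data J T m) : Nat.card ↥(centralizer ({J} : Set G)) = 2 * Nat.card ↥T := by
  rw [← Nat.card_congr d.split.toEquiv, Nat.card_prod, Nat.card_zpowers, d.ord]

/-- The projection of the centraliser on `⟨J⟩`. -/
noncomputable def Data.proj (d : Data J T m) : ↥(centralizer ({J} : Set G)) →* ↥(zpowers J) :=
  (MonoidHom.fst _ _).comp d.split.symm.toMonoidHom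

theorem Data.proj_eq (d : Data J T m) {x : G} {h : x ∈ centralizer ({J} : Set G)}
    {a : ↥(zpowers J)} {b : ↥T} (e : x = a * b) : d.proj ⟨x, h⟩ = a := by
  have : (⟨x, h⟩ : ↥(centralizer ({J} : Set G))) = d.split (a, b) := Subtype.ext e
  rw [this]
  show (d.split.symm (d.split (a, b))).1 = a
  rw [MulEquiv.symm_apply_apply]

theorem Data.proj_self (d : Data J T m) :
    d.proj ⟨J, d.self_mem⟩ = ⟨J, mem_zpowers J⟩ :=
  d.proj_eq (a := ⟨J, mem_zpowers J⟩) (b := 1) (by simp)

theorem Data.mem_T_iff (d : Data J T m) (x : ↥(centralizer ({J} : Set G))) :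
    (x : G) ∈ T ↔ d.proj x = 1 := by
  constructor
  · intro h
    exact d.proj_eq (a := 1) (b := ⟨x, h⟩) (by simp)
  · intro h
    obtain ⟨⟨a, b⟩, rfl⟩ := d.split.surjective x
    have ha : a = 1 := by
      rw [← h]
      show a = (d.split.symm (d.split (a, b))).1
      rw [MulEquiv.symm_apply_apply]
    rw [d.split_apply, ha, coe_one, one_mul]
    exact b.2

theorem Data.ne_one (d : Data J T m) : J ≠ 1 := fun h => by
  have := d.ord
  rw [h, orderOf_one] at this
  omega

theorem Data.mul_self (d : Data J T m) : J * J = 1 := by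
  rw [← sq, ← d.ord, pow_orderOf_eq_one]

theorem Data.not_mem (d : Data J T m) : J ∉ T := fun h => by
  have h' := (d.mem_T_iff ⟨J, d.self_mem⟩).1 h
  rw [d.proj_self] at h'
  exact d.ne_one (congrArg Subtype.val h')

theorem Data.exists_sylow (d : Data J T m) :
    ∃ P : Sylow 2 G, J ∈ (P : Subgroup G) ∧ (P : Subgroup G) ≤ centralizer ({J} : Set G) := by
  obtain ⟨-, P, hP, hc⟩ := d.cen
  exact ⟨P, hP, fun x hx => mem_centralizer_singleton_iff.2 (hc x hx)⟩

/-- Thompson transfer into the alternating factor. -/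
theorem Data.conj_mem (d : Data J T m) {P : Sylow 2 G} (hJ : J ∈ (P : Subgroup G))
    (hP : (P : Subgroup G) ≤ centralizer ({J} : Set G)) {u : G} (hu : u * u = 1) :
    ∃ g : G, g * u * g⁻¹ ∈ (P : Subgroup G) ⊓ T := by
  haveI : Fact (Nat.Prime 2) := ⟨Nat.prime_two⟩
  have hodd : Odd (P : Subgroup G).index :=
    Nat.odd_iff.2 (Nat.two_dvd_ne_zero.1 P.not_dvd_index)
  have hker : ((P : Subgroup G) ⊓ T).subgroupOf (P : Subgroup G) =
      (d.proj.comp (inclusion hP)).ker := by
    ext x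
    rw [mem_subgroupOf, MonoidHom.mem_ker, MonoidHom.comp_apply, ← d.mem_T_iff]
    exact ⟨fun h => h.2, fun h => ⟨x.2, h⟩⟩
  have hsurj : (d.proj.comp (inclusion hP)).range = ⊤ := by
    rw [eq_top_iff]
    rintro ⟨a, ha⟩ -
    obtain ⟨k, rfl⟩ := mem_zpowers_iff.1 ha
    refine ⟨⟨J, hJ⟩ ^ k, ?_⟩
    rw [map_zpow, MonoidHom.comp_apply,
      show inclusion hP ⟨J, hJ⟩ = ⟨J, d.self_mem⟩ from rfl, d.proj_self]
    exact Subtype.ext (by simp)
  have hrel : ((P : Subgroup G) ⊓ T).relIndex (P : Subgroup G) = 2 := by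
    rw [relIndex, hker, index_ker, hsurj, card_top, Nat.card_zpowers, d.ord]
  rcases ThompsonTransfer.thompson_transfer _ _ hodd hrel hu with ⟨M, hM, h2, -⟩ | h
  · exact absurd h2 (d.noTwo M hM)
  · exact h

/-- For `m ≥ 6` the hypotheses are contradictory. -/
theorem Data.lt_six (d : Data J T m) : m < 6 := by
  by_contra hm
  push Not at hm
  obtain ⟨P, hJ, hP⟩ := d.exists_sylow
  obtain ⟨g, hg⟩ := d.conj_mem hJ hP d.mul_self
  obtain ⟨e⟩ := d.iso
  set x : ↥T := ⟨g * J * g⁻¹, hg.2⟩ with hx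
  set σ : Equiv.Perm (Fin m) := (e x : Equiv.Perm (Fin m)) with hσ
  have hσ2 : σ * σ = 1 := by
    rw [hσ, ← coe_mul, ← map_mul]
    have : x * x = 1 := Subtype.ext (by
      show g * J * g⁻¹ * (g * J * g⁻¹) = 1
      rw [show g * J * g⁻¹ * (g * J * g⁻¹) = g * (J * J) * g⁻¹ by group, d.mul_self, mul_one,
        mul_inv_cancel])
    rw [this, map_one, coe_one]
  have hσd := mem_derC hσ2 (Equiv.Perm.mem_alternatingGroup.1 (e x).2) (by simpa using hm)
  -- the centraliser of `σ` maps into the centraliser of `J`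
  set W : Subgroup (Equiv.Perm (Fin m)) :=
    alternatingGroup (Fin m) ⊓ centralizer ({σ} : Set (Equiv.Perm (Fin m))) with hW
  let f0 : ↥W →* G :=
    (MulAut.conj g⁻¹).toMonoidHom.comp (T.subtype.comp (e.symm.toMonoidHom.comp (inclusion inf_le_left)))
  have hf0 : ∀ w, f0 w ∈ centralizer ({J} : Set G) := fun w => by
    have hc : Commute (inclusion (inf_le_left : W ≤ alternatingGroup (Fin m)) w) (e x) :=
      Subtype.ext (mem_centralizer_singleton_iff.1 w.2.2)
    have hc' : Commute (e.symm (inclusion (inf_le_left : W ≤ alternatingGroup (Fin m)) w)) x := by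
      have := hc.map e.symm.toMonoidHom
      simpa using this
    have h2 := congrArg Subtype.val hc'.eq
    have h3 : Commute (f0 w) (g⁻¹ * (x : G) * g⁻¹⁻¹) :=
      Commute.map (show Commute ((e.symm (inclusion inf_le_left w) : ↥T) : G) (x : G) from h2)
        (MulAut.conj g⁻¹).toMonoidHom
    have h4 : g⁻¹ * (x : G) * g⁻¹⁻¹ = J := by simp [hx, mul_assoc]
    rw [h4] at h3
    exact mem_centralizer_singleton_iff.2 h3.eq
  let f : ↥W →* ↥(zpowers J) := d.proj.comp (f0.codRestrict _ hf0)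
  have hσW : σ ∈ W := ⟨(e x).2, mem_centralizer_singleton_iff.2 rfl⟩
  have hf1 : f ⟨σ, hσW⟩ = ⟨J, mem_zpowers J⟩ := by
    refine d.proj_eq (a := ⟨J, mem_zpowers J⟩) (b := 1) ?_
    show g⁻¹ * (e.symm (e x) : G) * g⁻¹⁻¹ = J * 1
    simp [hx, mul_assoc]
  have hder : (⟨σ, hσW⟩ : ↥W) ∈ commutator ↥W := by
    rw [← mem_map_iff_mem (show Function.Injective W.subtype from W.subtype_injective),
      map_subtype_commutator]
    exact hσd
  have hle : commutator ↥W ≤ f.ker := by
    rw [commutator_def, commutator_le]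
    intro a _ b _
    rw [MonoidHom.mem_ker, map_commutatorElement, commutatorElement_eq_one_iff_mul_comm]
    obtain ⟨i, hi⟩ := mem_zpowers_iff.1 (f a).2
    obtain ⟨j, hj⟩ := mem_zpowers_iff.1 (f b).2
    refine Subtype.ext ?_
    rw [coe_mul, coe_mul, ← hi, ← hj]
    exact ((Commute.refl J).zpow_zpow i j).eq
  have := hle hder
  rw [MonoidHom.mem_ker, hf1] at this
  exact d.ne_one (congrArg Subtype.val this)

/-- For `m ≤ 3` the Sylow 2-subgroup has order 2, so the hypotheses are contradictory. -/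
theorem Data.four_le (d : Data J T m) : 4 ≤ m := by
  by_contra hm
  push Not at hm
  obtain ⟨P, hJ, hP⟩ := d.exists_sylow
  obtain ⟨g, hg⟩ := d.conj_mem hJ hP d.mul_self
  obtain ⟨e⟩ := d.iso
  have hodd : Odd (Nat.card ↥T) := by
    rw [Nat.card_congr e.toEquiv]
    interval_cases m
    all_goals first
      | rw [Nat.card_eq_fintype_card]; decide
  have hx : (⟨g * J * g⁻¹, hg.2⟩ : ↥T) = 1 := by
    refine orderOf_eq_one_iff.1 ?_
    have h2 : orderOf (⟨g * J * g⁻¹, hg.2⟩ : ↥T) ∣ 2 := orderOf_dvd_of_pow_eq_one (Subtype.ext (by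
      show (g * J * g⁻¹) ^ 2 = 1
      rw [conj_pow, sq, d.mul_self, mul_one, mul_inv_cancel]))
    have h1 : orderOf (⟨g * J * g⁻¹, hg.2⟩ : ↥T) ∣ Nat.card ↥T := orderOf_dvd_natCard _
    rcases (Nat.dvd_prime Nat.prime_two).1 h2 with h | h
    · exact h
    · rw [h] at h1
      exact absurd (even_iff_two_dvd.2 h1) (Nat.not_even_iff_odd.2 hodd)
  exact d.ne_one (conj_eq_one_iff.1 (congrArg Subtype.val hx))

end CfsgLib.TwoAlt
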