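import Cfsg.Agent.TwoAlt.Setup

/-!
Centraliser `⟨J⟩ × A₄` or `⟨J⟩ × A₅`: elementary Sylow 2-subgroup, one class of involutions.
-/

set_option autoImplicit false
set_option linter.unusedSectionVars false

namespace CfsgLib.TwoAlt

open Subgroup

theorem alt_four_exp : ∀ s : ↥(alternatingGroup (Fin 4)), s ^ 8 = 1 → s * s = 1 := by decide +kernel

theorem alt_five_exp : ∀ s : ↥(alternatingGroup (Fin 5)), s ^ 8 = 1 → s * s = 1 := by decide +kernel

set_option maxRecDepth 100000 in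
theorem alt_four_conj : ∀ s t : ↥(alternatingGroup (Fin 4)), s * s = 1 → s ≠ 1 → t * t = 1 → t ≠ 1 →
    ∃ r, r * s * r⁻¹ = t := by decide +kernel

set_option maxRecDepth 100000 in
theorem alt_five_conj : ∀ s t : ↥(alternatingGroup (Fin 5)), s * s = 1 → s ≠ 1 → t * t = 1 → t ≠ 1 →
    ∃ r, r * s * r⁻¹ = t := by decide +kernel

variable {G : Type*} [Group G] [Finite G] {J : G} {T : Subgroup G} {m : ℕ}

theorem Data.cases (d : Data J T m) : m = 4 ∨ m = 5 := by
  have := d.four_le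
  have := d.lt_six
  omega

theorem Data.card_T (d : Data J T m) :
    (m = 4 ∧ Nat.card ↥T = 12) ∨ (m = 5 ∧ Nat.card ↥T = 60) := by
  obtain ⟨e⟩ := d.iso
  rcases d.cases with rfl | rfl
  · exact Or.inl ⟨rfl, by rw [Nat.card_congr e.toEquiv, Nat.card_eq_fintype_card]; decide⟩
  · exact Or.inr ⟨rfl, by rw [Nat.card_congr e.toEquiv, Nat.card_eq_fintype_card]; decide⟩

theorem Data.T_exp (d : Data J T m) (s : ↥T) (hs : s ^ 8 = 1) : s * s = 1 := by
  obtain ⟨e⟩ := d.iso
  refine e.injective ?_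
  have h8 : e s ^ 8 = 1 := by rw [← map_pow, hs, map_one]
  rw [map_mul, map_one]
  rcases d.cases with rfl | rfl
  · exact alt_four_exp _ h8
  · exact alt_five_exp _ h8

theorem Data.T_conj (d : Data J T m) (s t : ↥T) (hs : s * s = 1) (hs1 : s ≠ 1) (ht : t * t = 1)
    (ht1 : t ≠ 1) : ∃ r : ↥T, r * s * r⁻¹ = t := by
  obtain ⟨e⟩ := d.iso
  have h : ∃ r, r * e s * r⁻¹ = e t := by
    rcases d.cases with rfl | rfl
    · exact alt_four_conj _ _ (by rw [← map_mul, hs, map_one]) (by simpa using hs1)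
        (by rw [← map_mul, ht, map_one]) (by simpa using ht1)
    · exact alt_five_conj _ _ (by rw [← map_mul, hs, map_one]) (by simpa using hs1)
        (by rw [← map_mul, ht, map_one]) (by simpa using ht1)
  obtain ⟨r, hr⟩ := h
  exact ⟨e.symm r, e.injective (by simpa using hr)⟩

/-- All involutions are conjugate to `J`. -/
theorem Data.isConj (d : Data J T m) {u : G} (hu : u * u = 1) (hu1 : u ≠ 1) : IsConj J u := by
  obtain ⟨P, hJ, hP⟩ := d.exists_sylow
  obtain ⟨a, ha⟩ := d.conj_mem hJ hP hu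
  obtain ⟨b, hb⟩ := d.conj_mem hJ hP d.mul_self
  have h : ∀ (g w : G), w * w = 1 → (g * w * g⁻¹) * (g * w * g⁻¹) = 1 := fun g w hw => by
    rw [show g * w * g⁻¹ * (g * w * g⁻¹) = g * (w * w) * g⁻¹ by group, hw, mul_one, mul_inv_cancel]
  obtain ⟨r, hr⟩ := d.T_conj ⟨_, hb.2⟩ ⟨_, ha.2⟩ (Subtype.ext (h b J d.mul_self))
    (fun e => d.ne_one (conj_eq_one_iff.1 (congrArg Subtype.val e)))
    (Subtype.ext (h a u hu)) (fun e => hu1 (conj_eq_one_iff.1 (congrArg Subtype.val e)))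
  have hr' : (r : G) * (b * J * b⁻¹) * (r : G)⁻¹ = a * u * a⁻¹ := congrArg Subtype.val hr
  refine isConj_iff.2 ⟨a⁻¹ * r * b, ?_⟩
  calc a⁻¹ * r * b * J * (a⁻¹ * r * b)⁻¹ = a⁻¹ * ((r : G) * (b * J * b⁻¹) * (r : G)⁻¹) * a := by group
    _ = u := by rw [hr']; group

theorem Data.card_sylow (d : Data J T m) {P : Sylow 2 G}
    (hP : (P : Subgroup G) ≤ centralizer ({J} : Set G)) : Nat.card ↥(P : Subgroup G) = 8 := by
  haveI : Fact (Nat.Prime 2) := ⟨Nat.prime_two⟩
  obtain ⟨k, hk⟩ := IsPGroup.iff_card.1 P.isPGroup'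
  have hodd : ¬ 2 ∣ (P : Subgroup G).relIndex (centralizer ({J} : Set G)) := fun h =>
    P.not_dvd_index (h.trans (Dvd.intro _ (relIndex_mul_index hP)))
  have hmul : Nat.card ↥(P : Subgroup G) * (P : Subgroup G).relIndex (centralizer ({J} : Set G)) =
      Nat.card ↥(centralizer ({J} : Set G)) := by
    rw [relIndex, ← Nat.card_congr (subgroupOfEquivOfLe hP).toEquiv, card_mul_index]
  set r := (P : Subgroup G).relIndex (centralizer ({J} : Set G)) with hr
  rw [hk] at hmul ⊢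
  have h24 : ∀ n, n = 24 ∨ n = 120 → 2 ^ k * r = n → 2 ^ k = 8 := by
    intro n hn h
    have hk8 : k ≤ 3 := by
      by_contra hk8
      push Not at hk8
      have h16 : 16 ∣ n := h ▸ Dvd.dvd.mul_right (pow_dvd_pow 2 hk8 : 2 ^ 4 ∣ 2 ^ k) r
      omega
    interval_cases k <;> omega
  refine h24 _ ?_ hmul
  rw [d.card_cent]
  rcases d.card_T with ⟨-, h⟩ | ⟨-, h⟩ <;> rw [h] <;> simp

theorem Data.sylow_sq (d : Data J T m) {P : Sylow 2 G}
    (hP : (P : Subgroup G) ≤ centralizer ({J} : Set G)) {x : G} (hx : x ∈ (P : Subgroup G)) :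
    x * x = 1 := by
  obtain ⟨⟨a, b⟩, hab⟩ := d.split.surjective ⟨x, hP hx⟩
  have h8 : x ^ 8 = 1 := by
    have := pow_card_eq_one' (x := (⟨x, hx⟩ : ↥(P : Subgroup G)))
    rw [d.card_sylow hP] at this
    exact congrArg Subtype.val this
  have h8' : (a, b) ^ 8 = 1 := d.split.injective (by
    rw [map_pow, hab, map_one]; exact Subtype.ext h8)
  have hb := d.T_exp b (congrArg Prod.snd h8')
  have ha : a * a = 1 := by
    rw [← sq]
    have h2 : Nat.card ↥(zpowers J) = 2 := by rw [Nat.card_zpowers, d.ord]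
    rw [← h2, pow_card_eq_one']
  have h : (a, b) * (a, b) = 1 := Prod.ext ha hb
  have := congrArg d.split h
  rw [map_mul, hab, map_one] at this
  exact congrArg Subtype.val this

theorem Data.sylow_comm (d : Data J T m) {P : Sylow 2 G}
    (hP : (P : Subgroup G) ≤ centralizer ({J} : Set G)) {x y : G} (hx : x ∈ (P : Subgroup G))
    (hy : y ∈ (P : Subgroup G)) : x * y = y * x := by
  have hi : ∀ {z : G}, z * z = 1 → z⁻¹ = z := fun h => inv_eq_of_mul_eq_one_right h
  have h := hi (d.sylow_sq hP ((P : Subgroup G).mul_mem hx hy))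
  rw [mul_inv_rev, hi (d.sylow_sq hP hx), hi (d.sylow_sq hP hy)] at h
  exact h.symm

theorem Data.card_eight (d : Data J T m) (S : Sylow 2 G) : Nat.card ↥(S : Subgroup G) = 8 := by
  haveI : Fact (Nat.Prime 2) := ⟨Nat.prime_two⟩
  obtain ⟨P, -, hP⟩ := d.exists_sylow
  rw [← d.card_sylow hP, Nat.card_congr (Sylow.equiv S P).toEquiv]

theorem Data.comm_all (d : Data J T m) (S : Sylow 2 G) : IsMulCommutative (S : Subgroup G) := by
  haveI : Fact (Nat.Prime 2) := ⟨Nat.prime_two⟩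
  obtain ⟨P, -, hP⟩ := d.exists_sylow
  refine ⟨⟨fun a b => (Sylow.equiv S P).injective ?_⟩⟩
  rw [map_mul, map_mul]
  exact Subtype.ext (d.sylow_comm hP (Sylow.equiv S P a).2 (Sylow.equiv S P b).2)

end CfsgLib.TwoAlt
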